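import Groth.Agent.Coherent.K52.TowerH

/-!
# Kleiman's class of systems

`Kc [C₀, …, C_{d-1}] S`: `h⁰(S(r)) ≤ C₀ r` for all `r`, there is a linear form `a` injective on `S`, the quotient
`S / a` satisfies `h⁰ ≤ C₁`, ..., and after `d` sections the system has no cohomology in positive degrees.
-/

set_option autoImplicit false

universe u

open CategoryTheory CategoryTheory.Limits

namespace K52.KClass

open Tower Groth.Agent.Fga.MumSys Groth.Agent.Fga.MumCast Groth.Agent.Fga.MumFinal

/-- Kleiman's class of systems. -/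
def Kc {n : ℕ} {K : Type u} [Field K] : List (ℤ → ℤ) → Sys (n + 1) K → Prop
  | [], S => ∀ (i : ℕ), 1 ≤ i → ∀ r : ℤ, Subsingleton ((S.C r).homology i)
  | C :: Cs, S => (∀ r : ℤ, (Module.finrank K ((S.C r).homology 0) : ℤ) ≤ C r) ∧
      ∃ a : Fin (n + 1) → K, (∀ (r s : ℤ) (h : r + 1 = s) (p : ℕ), Mono ((S.lin a r s h).f p)) ∧
        Kc Cs (quot' S a)

end K52.KClass
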