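import Groth.Agent.Coherent.K52.Bound
import Groth.Agent.Coherent.K52.KClass

/-!
# Acyclicity of the last section, membership in Kleiman's class
-/

set_option autoImplicit false

universe u

open CategoryTheory CategoryTheory.Limits AlgebraicGeometry Opposite TopologicalSpace Polynomial

namespace K52.Acyc

open HZ SecZ Tower TowerH Desc Key SubGen KeySheaf Num HP K52.Seq Bound KClass Groth.Agent Groth.Agent.Fga
  Groth.Agent.Fga.MumDict Groth.Agent.Fga.MumSES Groth.Agent.Fga.MumBC
  Groth.Agent.Fga.TwistGr Groth.Agent.Fga.MumSys Groth.Agent.Fga.MumCast Groth.Agent.Fga.MumFinal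
  Groth.Agent.Fga.MumLES Groth.Agent.Fga.MumReg Groth.Agent.PerfB.TwistDer Groth.Agent.Fga.GrFam

/-- A system without cohomology in large degrees has no cohomology. -/
theorem acyclic_of_large : ∀ (m : ℕ) (K : Type u) [Field K] (S : Sys m K),
    (∃ r₀ : ℤ, ∀ r : ℤ, r₀ ≤ r → ∀ i : ℕ, Subsingleton ((S.C r).homology i)) →
    ∀ (i : ℕ) (r : ℤ), Subsingleton ((S.C r).homology i) := by
  intro m
  induction m with
  | zero => intro K _ S _ i r; exact subsingleton_of_zero S r i
  | succ m ih =>
    intro K _ S ⟨r₀, hr₀⟩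
    have hext : ∀ r : ℤ, r₀ ≤ r → ∀ i : ℕ, Subsingleton (((ext S).C r).homology i) := fun r hr i =>
      (bc_subsingleton_iff (Gen K) _ i).2 (hr₀ r hr i)
    have hsec : ∀ (i : ℕ) (r : ℤ), Subsingleton (((sec S).C r).homology i) :=
      ih (Gen K) (sec S) ⟨r₀ + 1, fun r hr i => sub₃ (ses S (r - 1) r (by ring)) i (hext r (by omega) i)
        (hext (r - 1) (by omega) (i + 1))⟩
    have key : ∀ (j : ℕ) (r : ℤ), r₀ - j ≤ r → ∀ i : ℕ, Subsingleton (((ext S).C r).homology i) := by
      intro j
      induction j with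
      | zero => intro r hr i; exact hext r (by simpa using hr) i
      | succ j ihj =>
        intro r hr i
        have h2 : Subsingleton (((ext S).C (r + 1)).homology i) := ihj (r + 1) (by push_cast at hr; omega) i
        cases i with
        | zero =>
          have h3 := inj₀ (ses S r (r + 1) rfl)
          exact h3.subsingleton
        | succ i => exact sub₁ (ses S r (r + 1) rfl) i (hsec i (r + 1)) h2
    intro i r
    exact (bc_subsingleton_iff (Gen K) _ i).1 (key (r₀ - r).toNat r (by omega) i)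

/-- If the quotient by an injective form is acyclic in all degrees then the higher cohomology vanishes. -/
theorem van_of_quot {m : ℕ} {K : Type u} [Field K] (S : Sys (m + 1) K) (hS : Serre S)
    (Q : ℤ → CochainComplex (ModuleCat.{u} K) ℕ) (f : ∀ r : ℤ, S.C (r - 1) ⟶ S.C r)
    (g : ∀ r : ℤ, S.C r ⟶ Q r) (h0 : ∀ r, f r ≫ g r = 0)
    (hex : ∀ r, (ShortComplex.mk (f r) (g r) (h0 r)).ShortExact)
    (hQ : ∀ (i : ℕ) (r : ℤ), Subsingleton ((Q r).homology i)) :
    ∀ (i : ℕ), 1 ≤ i → ∀ r : ℤ, Subsingleton ((S.C r).homology i) := by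
  obtain ⟨r₀, hr₀⟩ := hS
  have key : ∀ (j : ℕ) (r : ℤ), r₀ - j ≤ r → ∀ i : ℕ, 1 ≤ i → Subsingleton ((S.C r).homology i) := by
    intro j
    induction j with
    | zero => intro r hr i hi; exact hr₀ r (by simpa using hr) i hi
    | succ j ihj =>
      intro r hr i hi
      obtain ⟨i, rfl⟩ : ∃ i', i = i' + 1 := ⟨i - 1, by omega⟩
      have h2 : Subsingleton ((S.C (r + 1)).homology (i + 1)) :=
        ihj (r + 1) (by push_cast at hr; omega) (i + 1) hi
      have h3 := sub₁ (hex (r + 1)) i (hQ i (r + 1)) h2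
      exact hsub_congr S (by ring) (i + 1) h3
  intro i hi r
  exact key (r₀ - r).toNat r (by omega) i hi

variable {k : Type u} [Field k] {n : ℕ} [CharZero k] {F : (PP k n).Modules} {d r : ℕ} {b : ℚ}
  (H : Hyp F d r b)

include H

theorem deg_le {P : ℚ[X]} (hP : HP k F P) : P.natDegree ≤ d := by
  by_cases hz : IsZero F
  · rw [K847.HilbBasic.hilbPoly_eq_zero k hz (isHilbPoly_of_HP hP)]
    simp
  · exact (Bound.natDegree_eq H F (𝟙 F) inferInstance H.coh hz hP).le

/-- The section of dimension `-1` is acyclic. -/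
theorem acyclic_succ (i : ℕ) (m : ℤ) :
    Subsingleton (((T (Fsys k n F) (d + 1)).C m).homology i) := by
  refine acyclic_of_large (n + 1) (OO k n) (T (Fsys k n F) (d + 1)) ?_ i m
  obtain ⟨r₀, hr₀⟩ := serre_T _ (serre_sys k n F H.coh) (d + 1)
  obtain ⟨P, hP⟩ := exists_HP H.coh
  obtain ⟨m₀, hm₀⟩ := hd_large H.coh hP (d + 1)
  have hnab : nab^[d + 1] P = 0 := by
    rw [Function.iterate_succ_apply']
    have h2 := natDegree_nab_iter_le d 0 P (by have := deg_le H hP; omega)
    rw [Polynomial.eq_C_of_natDegree_le_zero h2]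
    simp [nab]
  refine ⟨max r₀ m₀, fun r hr i => ?_⟩
  rcases Nat.eq_zero_or_pos i with rfl | hi
  · have h1 := hm₀ r ((le_max_right _ _).trans hr)
    rw [hnab, eval_zero] at h1
    have h2 : hd F (d + 1) r = 0 := by exact_mod_cast h1
    have h3 : Module.finrank (OO k n) (((T (Fsys k n F) (d + 1)).C r).homology 0) = 0 := by
      unfold hd hT at h2
      exact_mod_cast h2
    have h4 := fin_T H.coh (d + 1) r
    exact Module.finrank_zero_iff.1 h3
  · exact hr₀ r ((le_max_left _ _).trans hr) i hi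

/-- The last section has no cohomology in positive degrees. -/
theorem acyclic (i : ℕ) (hi : 1 ≤ i) (m : ℤ) : Subsingleton (((T (Fsys k n F) d).C m).homology i) :=
  van_of_quot (T (Fsys k n F) d) (serre_T _ (serre_sys k n F H.coh) d)
    (fun r => (T (Fsys k n F) (d + 1)).C r)
    (fun r => (T (Fsys k n F) d).lin (uu k n d) (r - 1) r (by ring))
    (fun r => qp (T (Fsys k n F) d) (uu k n d) r) (fun r => lin_quotπ _ _ _ _ _)
    (fun r => ses (Fsys k n F) d (r - 1) r (by ring))
    (fun i r => acyclic_succ H i r) i hi m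

end K52.Acyc
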