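import Mathlib.Tactic.Linarith
import Mathlib.Tactic.Positivity
import Mathlib.Tactic.Ring
import Mathlib.Tactic.FieldSimp
import Mathlib.Data.Nat.Factorial.Basic
import Mathlib.Algebra.Order.Field.Rat
import Mathlib.Algebra.Order.Ring.Pow
import Mathlib.Algebra.Order.Floor.Ring
import Mathlib.Data.Rat.Floor

/-!
# Integer sequences
-/

set_option autoImplicit false

namespace K52.Seq

theorem mono_of {h : ℤ → ℤ} (hm : ∀ m, h (m - 1) ≤ h m) {a b : ℤ} (hab : a ≤ b) : h a ≤ h b := by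
  obtain ⟨j, rfl⟩ : ∃ j : ℕ, b = a + j := ⟨(b - a).toNat, by omega⟩
  clear hab
  induction j with
  | zero => simp
  | succ j ih =>
    refine ih.trans ?_
    have := hm (a + (j + 1 : ℕ))
    have e : a + ((j + 1 : ℕ) : ℤ) - 1 = a + j := by push_cast; ring
    rwa [e] at this

/-- A nondecreasing nonnegative sequence is constant near `-∞`. -/
theorem exists_const {h : ℤ → ℤ} (h0 : ∀ m, 0 ≤ h m) (hm : ∀ m, h (m - 1) ≤ h m) :
    ∃ q, h (q - 1) = h q ∧ h q = h (q + 1) := by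
  classical
  have hex : ∃ v : ℕ, ∃ q : ℤ, h q = v := ⟨(h 0).toNat, 0, by have := h0 0; omega⟩
  obtain ⟨q, hq⟩ := Nat.find_spec hex
  have hmin : ∀ m, h q ≤ h m := by
    intro m
    rw [hq]
    have h1 : Nat.find hex ≤ (h m).toNat := Nat.find_min' hex ⟨m, by have := h0 m; omega⟩
    have := h0 m
    omega
  refine ⟨q - 1, ?_, ?_⟩
  · have h1 := mono_of hm (show q - 1 - 1 ≤ q - 1 by omega)
    have h2 := mono_of hm (show q - 1 ≤ q by omega)
    have h3 := hmin (q - 1 - 1)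
    omega
  · have h2 := mono_of hm (show q - 1 ≤ q by omega)
    have h3 := hmin (q - 1)
    have e : q - 1 + 1 = q := by ring
    rw [e]
    omega

/-- Pigeonhole for nondecreasing sequences. -/
theorem exists_eq_succ {ρ : ℤ → ℤ} (hρ : ∀ m, ρ m ≤ ρ (m + 1)) (r : ℕ) (q₀ : ℤ) (h1 : 1 ≤ ρ q₀)
    (h2 : ρ (q₀ + r) ≤ r) : ∃ i : ℕ, i < r ∧ ρ (q₀ + i) = ρ (q₀ + i + 1) := by
  by_contra hcon
  push Not at hcon
  have key : ∀ i : ℕ, i ≤ r → (i : ℤ) + 1 ≤ ρ (q₀ + i) := by
    intro i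
    induction i with
    | zero => intro _; simpa using h1
    | succ i ih =>
      intro hi
      have h3 := ih (by omega)
      have h4 := hcon i (by omega)
      have h5 := hρ (q₀ + i)
      have e : q₀ + ((i + 1 : ℕ) : ℤ) = q₀ + i + 1 := by push_cast; ring
      rw [e]
      push_cast
      omega
  have := key r le_rfl
  omega

/-- `max(y,0)^j / j!`. -/
def ff (j : ℕ) (y : ℚ) : ℚ := (max y 0) ^ j / (j.factorial : ℚ)

theorem ff_nonneg (j : ℕ) (y : ℚ) : 0 ≤ ff j y := by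
  unfold ff
  positivity

theorem ff_mono (j : ℕ) {y z : ℚ} (h : y ≤ z) : ff j y ≤ ff j z := by
  unfold ff
  have : max y 0 ≤ max z 0 := max_le_max_right 0 h
  gcongr

theorem ff_of_nonpos (j : ℕ) {y : ℚ} (h : y ≤ 0) : ff (j + 1) y = 0 := by
  unfold ff
  rw [max_eq_right h]
  simp

theorem ff_of_nonneg (j : ℕ) {y : ℚ} (h : 0 ≤ y) : ff j y = y ^ j / (j.factorial : ℚ) := by
  unfold ff
  rw [max_eq_left h]

theorem ff_step (j : ℕ) (y : ℚ) : ff (j + 1) y ≤ ff (j + 2) (y + 1) - ff (j + 2) y := by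
  rcases le_total y 0 with hy | hy
  · rw [ff_of_nonpos j hy, ff_of_nonpos (j + 1) hy, sub_zero]
    exact ff_nonneg _ _
  · rw [ff_of_nonneg _ hy, ff_of_nonneg _ hy, ff_of_nonneg _ (by linarith), ← sub_div]
    have hf : ((j + 2).factorial : ℚ) = (j + 2) * ((j + 1).factorial : ℚ) := by
      rw [Nat.factorial_succ]; push_cast; ring
    rw [hf, div_le_div_iff₀ (by positivity) (by positivity)]
    have hb : y ^ (j + 2) + (j + 2) * y ^ (j + 1) ≤ (y + 1) ^ (j + 2) := by
      have key : ∀ e : ℕ, y ^ (e + 1) + (e + 1) * y ^ e ≤ (y + 1) ^ (e + 1) := by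
        intro e
        induction e with
        | zero => simp
        | succ e ih =>
          have h1 : (y + 1) ^ (e + 1 + 1) = (y + 1) ^ (e + 1) * (y + 1) := pow_succ _ _
          rw [h1]
          have h2 : (y ^ (e + 1) + (e + 1) * y ^ e) * (y + 1) ≤ (y + 1) ^ (e + 1) * (y + 1) :=
            mul_le_mul_of_nonneg_right ih (by linarith)
          refine le_trans ?_ h2
          have h3 : 0 ≤ (e + 1 : ℚ) * y ^ e := by positivity
          push_cast
          ring_nf
          ring_nf at h3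
          nlinarith [h3]
      have := key (j + 1)
      push_cast at this
      convert this using 2
      ring
    have h3 : 0 < ((j + 1).factorial : ℚ) := by positivity
    calc y ^ (j + 1) * ((j + 2) * ((j + 1).factorial : ℚ))
        = ((j + 2) * y ^ (j + 1)) * ((j + 1).factorial : ℚ) := by ring
      _ ≤ ((y + 1) ^ (j + 2) - y ^ (j + 2)) * ((j + 1).factorial : ℚ) :=
          mul_le_mul_of_nonneg_right (by linarith) h3.le

/-- Telescoping. -/
theorem bound_step {h g : ℤ → ℤ} {r X : ℚ} (hr : 0 ≤ r) (j : ℕ) (hd : ∀ m, h m - h (m - 1) ≤ g m)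
    (hz : ∃ q, ∀ m ≤ q, h m = 0) (hg : ∀ m : ℤ, (g m : ℚ) ≤ r * ff (j + 1) (m + X)) (m : ℤ) :
    (h m : ℚ) ≤ r * ff (j + 2) (m + X + 1) := by
  obtain ⟨q, hq⟩ := hz
  rcases le_total m q with hm | hm
  · rw [hq m hm]
    push_cast
    exact mul_nonneg hr (ff_nonneg _ _)
  · obtain ⟨i, rfl⟩ : ∃ i : ℕ, m = q + i := ⟨(m - q).toNat, by omega⟩
    clear hm
    induction i with
    | zero =>
      rw [hq _ (by simp)]
      push_cast
      exact mul_nonneg hr (ff_nonneg _ _)
    | succ i ih =>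
      have h1 := hd (q + (i + 1 : ℕ))
      have e : q + ((i + 1 : ℕ) : ℤ) - 1 = q + i := by push_cast; ring
      rw [e] at h1
      have h2 := hg (q + (i + 1 : ℕ))
      have h3 := ff_step j (((q + (i + 1 : ℕ) : ℤ) : ℚ) + X)
      have h4 : ((h (q + (i + 1 : ℕ)) : ℤ) : ℚ) ≤ (h (q + i) : ℚ) + (g (q + (i + 1 : ℕ)) : ℚ) := by
        have : h (q + (i + 1 : ℕ)) ≤ h (q + i) + g (q + (i + 1 : ℕ)) := by omega
        exact_mod_cast this
      have e2 : (((q + i : ℤ) : ℚ) + X + 1) = ((q + (i + 1 : ℕ) : ℤ) : ℚ) + X := by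
        push_cast; ring
      rw [e2] at ih
      have h5 := mul_le_mul_of_nonneg_left h3 hr
      rw [mul_sub] at h5
      linarith

/-- The start of the telescoping. -/
theorem bound_zero {h g : ℤ → ℤ} {r X : ℚ} (hr : 0 ≤ r) (hd : ∀ m, h m - h (m - 1) ≤ g m)
    (hz : ∀ m : ℤ, (m : ℚ) + X ≤ 0 → h m = 0) (hg : ∀ m : ℤ, (g m : ℚ) ≤ r) (m : ℤ) :
    (h m : ℚ) ≤ r * ff 1 (m + X + 1) := by
  set q : ℤ := ⌊-X⌋ with hqdef
  have hq1 : (q : ℚ) ≤ -X := Int.floor_le _
  have hq2 : -X < q + 1 := Int.lt_floor_add_one _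
  have hzq : ∀ m : ℤ, m ≤ q → h m = 0 := fun m hm => hz m (by
    have : (m : ℚ) ≤ q := by exact_mod_cast hm
    linarith)
  rcases le_total m q with hm | hm
  · rw [hzq m hm]
    push_cast
    exact mul_nonneg hr (ff_nonneg _ _)
  · obtain ⟨i, rfl⟩ : ∃ i : ℕ, m = q + i := ⟨(m - q).toNat, by omega⟩
    clear hm
    have key : ∀ i : ℕ, (h (q + i) : ℚ) ≤ r * i := by
      intro i
      induction i with
      | zero =>
        rw [hzq _ (by simp)]
        simp
      | succ i ih =>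
        have h1 := hd (q + (i + 1 : ℕ))
        have e : q + ((i + 1 : ℕ) : ℤ) - 1 = q + i := by push_cast; ring
        rw [e] at h1
        have h2 := hg (q + (i + 1 : ℕ))
        have h4 : ((h (q + (i + 1 : ℕ)) : ℤ) : ℚ) ≤ (h (q + i) : ℚ) + (g (q + (i + 1 : ℕ)) : ℚ) := by
          have : h (q + (i + 1 : ℕ)) ≤ h (q + i) + g (q + (i + 1 : ℕ)) := by omega
          exact_mod_cast this
        push_cast
        push_cast at h4 h2
        linarith
    have h1 : (i : ℚ) ≤ ((q + i : ℤ) : ℚ) + X + 1 := by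
      push_cast
      linarith
    have h2 : (0 : ℚ) ≤ i := by positivity
    rw [ff_of_nonneg 1 (h2.trans h1)]
    simp only [pow_one, Nat.factorial_one, Nat.cast_one, div_one]
    exact (key i).trans (mul_le_mul_of_nonneg_left h1 hr)

end K52.Seq
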