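import Groth.Agent.Coherent.K52.HP
import Groth.Agent.Coherent.K52.Seq

/-!
# The bounds on the sections of the generic linear sections
-/

set_option autoImplicit false

universe u

open CategoryTheory CategoryTheory.Limits AlgebraicGeometry Opposite TopologicalSpace Polynomial

namespace K52.Bound

open HZ SecZ Tower TowerH Desc Key SubGen KeySheaf Num HP K52.Seq Groth.Agent Groth.Agent.Fga Groth.Agent.Fga.MumCech
  Groth.Agent.Fga.MumDict Groth.Agent.Fga.MumSES Groth.Agent.Fga.PicMon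
  Groth.Agent.Fga.TwistGr Groth.Agent.Fga.MumSys Groth.Agent.Fga.MumCast Groth.Agent.Fga.MumFinal
  Groth.Agent.Fga.MumLES Groth.Agent.Fga.MumReg Groth.Agent.PerfB.TwistDer Groth.Agent.Fga.GrFam

variable {k : Type u} [Field k] {n : ℕ} [CharZero k]

theorem hd_nonneg (F : (PP k n).Modules) (t : ℕ) (m : ℤ) : 0 ≤ hd F t m := by
  unfold hd hT
  positivity

variable {F : (PP k n).Modules} (hF : Coh.IsCoh F)

include hF in
theorem fin_T (t : ℕ) (r : ℤ) : Module.Finite (OO k n) (((T (Fsys k n F) t).C r).homology 0) :=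
  finite_T (Fsys k n F) (finite_homology F hF) t 0 r

include hF in
theorem hd_mono (t : ℕ) (m : ℤ) : hd F t (m - 1) ≤ hd F t m := by
  have h := (pd (Fsys k n F) t (fin_T hF t)).mono m
  rw [hT_eq, hT_eq] at h
  exact h

include hF in
theorem hd_convex (t : ℕ) (m : ℤ) : hd F t m - hd F t (m - 1) ≤ hd F t (m + 1) - hd F t m := by
  have h := (pd (Fsys k n F) t (fin_T hF t)).mono_diff m
  rw [hT_eq, hT_eq, hT_eq] at h
  exact h

include hF in
theorem hd_diff_le (t : ℕ) (m : ℤ) : hd F t m - hd F t (m - 1) ≤ hd F (t + 1) m := by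
  have hs := ses (Fsys k n F) t (m - 1) m (by ring)
  have f2 := fin_T hF t m
  have f3 : Module.Finite (OO k n) (((quot' (T (Fsys k n F) t) (uu k n t)).C m).homology 0) :=
    fin_T hF (t + 1) m
  have h1 := exact_finrank (Hmap ((T (Fsys k n F) t).lin (uu k n t) (m - 1) m (by ring)) 0)
    (Hmap (qp (T (Fsys k n F) t) (uu k n t) m) 0) (ex₂ hs 0)
  rw [LinearMap.finrank_range_of_inj (inj₀ hs)] at h1
  have h2 := Submodule.finrank_le (LinearMap.range (Hmap (qp (T (Fsys k n F) t) (uu k n t) m) 0))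
  unfold hd hT
  have h3 : Module.finrank (OO k n) (((T (Fsys k n F) t).C m).homology 0) =
    Module.finrank (OO k n) (((T (Fsys k n F) t).C (m - 1)).homology 0) +
    Module.finrank (OO k n) (LinearMap.range (Hmap (qp (T (Fsys k n F) t) (uu k n t) m) 0)) := h1
  have h4 : Module.finrank (OO k n) (LinearMap.range (Hmap (qp (T (Fsys k n F) t) (uu k n t) m) 0)) ≤
    Module.finrank (OO k n) (((T (Fsys k n F) (t + 1)).C m).homology 0) := h2
  omega

omit [CharZero k] [Field k] in
theorem nab_zero (t : ℕ) : nab^[t] 0 = 0 := by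
  induction t with
  | zero => rfl
  | succ t ih =>
    rw [Function.iterate_succ_apply]
    have : nab 0 = 0 := by simp [nab]
    rw [this, ih]

/-- The sections of a zero module. -/
theorem hd_zero_large {G : (PP k n).Modules} (hG : Coh.IsCoh G) (h0 : IsZero G) (t : ℕ) :
    ∃ m₀ : ℤ, ∀ m : ℤ, m₀ ≤ m → hd G t m = 0 := by
  obtain ⟨P, hP⟩ := exists_HP hG
  have hP0 : P = 0 := K847.HilbBasic.hilbPoly_eq_zero k h0 (isHilbPoly_of_HP hP)
  obtain ⟨m₀, hm₀⟩ := hd_large hG hP t
  refine ⟨m₀, fun m hm => ?_⟩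
  have h1 := hm₀ m hm
  rw [hP0, nab_zero, eval_zero] at h1
  exact_mod_cast h1

/-- The subsheaf produced by two equal consecutive differences, with the Hilbert polynomial. -/
theorem exists_sub_HP (hF : Coh.IsCoh F) (t : ℕ) (q : ℤ)
    (hq : hd F t (q + 1) - hd F t q = hd F t q - hd F t (q - 1)) (h0 : hd F t q ≠ 0) :
    ∃ (G : (PP k n).Modules) (ι : G ⟶ F) (P : ℚ[X]), Mono ι ∧ Coh.IsCoh G ∧ ¬ IsZero G ∧ HP k G P ∧
      nab^[t] P = C ((hd F t q - hd F t (q - 1) : ℤ) : ℚ) * X +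
        C ((hd F t q - q * (hd F t q - hd F t (q - 1)) : ℤ) : ℚ) := by
  obtain ⟨G, ι, hι, hG, m₁, hm₁⟩ := exists_sheaf F hF t q hq
  obtain ⟨P, hP⟩ := exists_HP hG
  have hpoly : nab^[t] P = C ((hd F t q - hd F t (q - 1) : ℤ) : ℚ) * X +
        C ((hd F t q - q * (hd F t q - hd F t (q - 1)) : ℤ) : ℚ) := by
    obtain ⟨m₀, hm₀⟩ := hd_large hG hP t
    refine eq_of_large _ _ (max m₀ m₁) fun m hm => ?_
    rw [← hm₀ m ((le_max_left _ _).trans hm), hm₁ m ((le_max_right _ _).trans hm)]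
    simp only [eval_add, eval_mul, eval_C, eval_X]
    push_cast
    ring
  refine ⟨G, ι, P, hι, hG, fun hz => h0 ?_, hP, hpoly⟩
  obtain ⟨m₀, hm₀⟩ := hd_zero_large hG hz t
  -- the linear function vanishes for large `m`
  have e1 := hm₁ (max m₀ m₁) (le_max_right _ _)
  rw [hm₀ _ (le_max_left _ _)] at e1
  have e2 := hm₁ (max m₀ m₁ + 1) ((le_max_right m₀ m₁).trans (by omega))
  rw [hm₀ _ ((le_max_left m₀ m₁).trans (by omega))] at e2
  have e3 : hd F t q - hd F t (q - 1) = 0 := by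
    have : (max m₀ m₁ + 1 - q) * (hd F t q - hd F t (q - 1)) =
      (max m₀ m₁ - q) * (hd F t q - hd F t (q - 1)) + (hd F t q - hd F t (q - 1)) := by ring
    omega
  rw [e3, mul_zero, add_zero] at e1
  exact e1.symm

/-- Hypotheses: purity, multiplicity and slopes. -/
structure Hyp (F : (PP k n).Modules) (d : ℕ) (r : ℕ) (b : ℚ) : Prop where
  coh : Coh.IsCoh F
  pure : ∀ (G : (PP k n).Modules) (ι : G ⟶ F), Mono ι → Coh.IsCoh G → ¬ IsZero G →
    topologicalKrullDim (CohB1.support G) = (d : WithBot ℕ∞)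
  rank : ∀ P : ℚ[X], HP k F P → StabCat.alpha d P ≤ r
  slope : 1 ≤ d → ∀ (G : (PP k n).Modules) (ι : G ⟶ F), Mono ι → Coh.IsCoh G → ¬ IsZero G →
    ∀ P : ℚ[X], HP k G P → StabCat.hatSlope d P ≤ b

variable {d r : ℕ} {b : ℚ} (H : Hyp F d r b)

include H

theorem natDegree_eq (G : (PP k n).Modules) (ι : G ⟶ F) (hι : Mono ι) (hG : Coh.IsCoh G)
    (h0 : ¬ IsZero G) {P : ℚ[X]} (hP : HP k G P) : P.natDegree = d :=
  K847.HilbBasic.natDegree_eq k (isAmple_O_one k n) hG (H.pure G ι hι hG h0) (isHilbPoly_of_HP hP)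

theorem alpha_pos (G : (PP k n).Modules) (ι : G ⟶ F) (hι : Mono ι) (hG : Coh.IsCoh G)
    (h0 : ¬ IsZero G) {P : ℚ[X]} (hP : HP k G P) : 0 < StabCat.alpha d P :=
  K847.HilbBasic.alpha_pos k (isAmple_O_one k n) hG (H.pure G ι hι hG h0) (isHilbPoly_of_HP hP)

/-- Vanishing near `-∞`. -/
theorem neg (t : ℕ) (ht : t < d) : ∃ q : ℤ, ∀ m : ℤ, m ≤ q → hd F t m = 0 := by
  obtain ⟨q, h1, h2⟩ := exists_const (hd_nonneg F t) (hd_mono H.coh t)
  by_cases h0 : hd F t q = 0
  · refine ⟨q, fun m hm => ?_⟩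
    have h3 := mono_of (hd_mono H.coh t) hm
    have h4 := hd_nonneg F t m
    omega
  · exfalso
    obtain ⟨G, ι, P, hι, hG, hz, hP, hpoly⟩ := exists_sub_HP H.coh t q (by omega) h0
    have h3 : hd F t q - hd F t (q - 1) = 0 := by omega
    rw [h3] at hpoly
    have h4 : (nab^[t] P).natDegree ≤ 0 := by
      rw [hpoly]
      simp
    have h5 := natDegree_le_of_nab_iter t 0 P h4
    have h6 := natDegree_eq H G ι hι hG hz hP
    omega

/-- The bound on the number of points. -/
theorem hd_top_le (m : ℤ) : hd F d m ≤ r := by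
  obtain ⟨P, hP⟩ := exists_HP H.coh
  obtain ⟨m₀, hm₀⟩ := hd_large H.coh hP d
  have hdeg : P.natDegree ≤ d := by
    by_cases hz : IsZero F
    · rw [K847.HilbBasic.hilbPoly_eq_zero k hz (isHilbPoly_of_HP hP)]
      simp
    · exact (natDegree_eq H F (𝟙 F) inferInstance H.coh hz hP).le
  have h1 : nab^[d] P = C (StabCat.alpha d P) := by
    have h2 := natDegree_nab_iter_le d 0 P (by omega)
    have h3 := alpha_nab_iter d 0 P (by omega)
    rw [Polynomial.eq_C_of_natDegree_le_zero h2]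
    congr 1
    rw [zero_add] at h3
    rw [← h3]
    simp [StabCat.alpha]
  have h4 := hm₀ (max m₀ m) (le_max_left _ _)
  rw [h1, eval_C] at h4
  have h5 := H.rank P hP
  rw [← h4] at h5
  have h6 := mono_of (hd_mono H.coh d) (le_max_right m₀ m)
  have h7 : hd F d (max m₀ m) ≤ r := by exact_mod_cast h5
  omega

/-- The vanishing of the sections of the one-dimensional section. -/
theorem hd_pred_zero (e : ℕ) (he : e + 1 = d) (m : ℤ) (hm : (m : ℚ) + (b - e / 2 + (r - 1)) ≤ 0) :
    hd F e m = 0 := by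
  by_contra h0
  obtain ⟨q₁, hq₁⟩ := neg H e (by omega)
  obtain ⟨q₀, hq₀, hmin⟩ := Int.exists_least_of_bdd (P := fun q => hd F e q ≠ 0)
    ⟨q₁, fun z hz => by
      by_contra hcon
      exact hz (hq₁ z (by omega))⟩ ⟨m, h0⟩
  have hpred : hd F e (q₀ - 1) = 0 := by
    by_contra hcon
    have := hmin _ hcon
    omega
  have hpos : 0 < hd F e q₀ := lt_of_le_of_ne (hd_nonneg F e q₀) (Ne.symm hq₀)
  have hdiff : ∀ m : ℤ, hd F e m - hd F e (m - 1) ≤ r := fun m => by
    have h1 := hd_diff_le H.coh e m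
    have h2 := hd_top_le H m
    rw [← he] at h2
    exact h1.trans h2
  obtain ⟨i, hi, heq⟩ := exists_eq_succ (ρ := fun q => hd F e q - hd F e (q - 1))
    (fun m => by
      have := hd_convex H.coh e m
      have e1 : m + 1 - 1 = m := by ring
      simp only [e1]
      exact this) r q₀ (by simp only [hpred]; omega) (hdiff _)
  have e1 : q₀ + (i : ℤ) + 1 - 1 = q₀ + i := by ring
  rw [e1] at heq
  -- positivity
  have hqpos : 0 < hd F e (q₀ + i) := lt_of_lt_of_le hpos (mono_of (hd_mono H.coh e) (by omega))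
  have hspos : 1 ≤ hd F e (q₀ + i) - hd F e (q₀ + i - 1) := by
    have h1 : ∀ j : ℕ, 1 ≤ hd F e (q₀ + j) - hd F e (q₀ + j - 1) := by
      intro j
      induction j with
      | zero => simp only [Nat.cast_zero, add_zero, hpred]; omega
      | succ j ih =>
        have h2 := hd_convex H.coh e (q₀ + j)
        have e2 : q₀ + ((j + 1 : ℕ) : ℤ) = q₀ + j + 1 := by push_cast; ring
        have e3 : q₀ + (j : ℤ) + 1 - 1 = q₀ + j := by ring
        rw [e2, e3]
        omega
    exact h1 i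
  obtain ⟨G, ι, P, hι, hG, hz, hP, hpoly⟩ := exists_sub_HP H.coh e (q₀ + i) heq.symm hqpos.ne'
  set s : ℤ := hd F e (q₀ + i) - hd F e (q₀ + i - 1) with hs
  have hdeg := natDegree_eq H G ι hι hG hz hP
  have hit := nab_iter e P (by omega)
  rw [hpoly] at hit
  have c1 := congrArg (fun Q : ℚ[X] => Q.coeff 1) hit
  have c0 := congrArg (fun Q : ℚ[X] => Q.coeff 0) hit
  simp only [coeff_add, coeff_C_mul, coeff_X_one, coeff_X_zero, mul_one, mul_zero, zero_add,
    coeff_C_zero, coeff_C_succ, add_zero] at c1 c0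
  rw [he] at c1 c0
  have hsl := H.slope (by omega) G ι hι hG hz P hP
  rw [StabCat.hatSlope, ← c1] at hsl
  have hd1 : d - 1 = e := by omega
  rw [hd1] at hsl
  rw [← c1] at c0
  have hsq : (0 : ℚ) < (s : ℚ) := by exact_mod_cast hspos
  have hαe : StabCat.alpha e P = ((hd F e (q₀ + i) - (q₀ + i) * s : ℤ) : ℚ) + s * e / 2 := by
    linarith
  rw [div_le_iff₀ hsq, hαe] at hsl
  have hqle : ((q₀ + i : ℤ) : ℚ) ≤ m + (r - 1) := by
    have h1 : q₀ ≤ m := hmin m h0
    have h2 : q₀ + i ≤ m + (r - 1) := by omega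
    exact_mod_cast h2
  have hqp : (0 : ℚ) < (hd F e (q₀ + i) : ℚ) := by exact_mod_cast hqpos
  push_cast at hsl hqle
  have h3 : (0 : ℚ) < s * (b - e / 2 + (q₀ + i)) := by linarith
  have h4 : (0 : ℚ) < b - e / 2 + (q₀ + i) := by
    by_contra hcon
    push Not at hcon
    have := mul_nonpos_of_nonneg_of_nonpos hsq.le hcon
    linarith
  linarith

/-- **The bounds on the sections of the generic linear sections.** -/
theorem hd_le (j t : ℕ) (hj : t + j + 1 = d) (m : ℤ) :
    (hd F t m : ℚ) ≤ r * ff (j + 1) (m + (b - (d - 1) / 2 + (r - 1)) + (j + 1)) := by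
  have hr : (0 : ℚ) ≤ r := by positivity
  induction j generalizing t m with
  | zero =>
    have h1 := bound_zero (h := hd F t) (g := hd F (t + 1)) (r := r)
      (X := b - (d - 1) / 2 + (r - 1)) hr (hd_diff_le H.coh t)
      (fun m hm => hd_pred_zero H t (by omega) m (by
        have : (d : ℚ) = t + 1 := by exact_mod_cast (by omega : d = t + 1)
        rw [this] at hm
        refine le_trans (le_of_eq ?_) hm
        ring))
      (fun m => by
        have h2 := hd_top_le H m
        have h3 : t + 1 = d := by omega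
        rw [h3]
        exact_mod_cast h2) m
    simpa using h1
  | succ j ih =>
    obtain ⟨q, hq⟩ := neg H t (by omega)
    have h1 := bound_step (h := hd F t) (g := hd F (t + 1)) (r := r)
      (X := b - (d - 1) / 2 + (r - 1) + (j + 1)) hr j (hd_diff_le H.coh t) ⟨q, fun m hm => hq m hm⟩
      (fun m => by
        have h2 := ih (t + 1) (by omega) m
        rw [← add_assoc]
        exact h2) m
    refine h1.trans (le_of_eq ?_)
    congr 2
    push_cast
    ring

/-- The vanishing of the sections. -/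
theorem hd_eq_zero (j t : ℕ) (hj : t + j + 1 = d) (m : ℤ)
    (hm : (m : ℚ) + (b - (d - 1) / 2 + (r - 1)) + (j + 1) ≤ 0) : hd F t m = 0 := by
  have h1 := hd_le H j t hj m
  rw [ff_of_nonpos j hm, mul_zero] at h1
  have h2 := hd_nonneg F t m
  have h3 : hd F t m ≤ 0 := by exact_mod_cast h1
  omega

end K52.Bound
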