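import Mathlib.RingTheory.Etale.Kaehler
import Mathlib.RingTheory.Localization.FractionRing
import Mathlib.Algebra.MvPolynomial.PDeriv

/-!
# The rational function field and its partial derivatives

* `Om k I`: the field of rational functions over `k` in variables indexed by `I`;
* `U k τ`: the variable;
* `mon k α`: the monomial;
* `dd k τ`: the partial derivative, a `k`-derivation of `Om k I` extending `MvPolynomial.pderiv τ`.
-/

set_option autoImplicit false

universe u v

open KaehlerDifferential

namespace K52.Der

/-- Extension of a derivation along a formally etale map. -/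
theorem exists_extend (k A B : Type*) [CommRing k] [CommRing A] [CommRing B] [Algebra k A]
    [Algebra k B] [Algebra A B] [IsScalarTower k A B] [Algebra.FormallyEtale A B]
    (d : Derivation k A A) :
    ∃ d' : Derivation k B B, ∀ a : A, d' (algebraMap A B a) = algebraMap A B (d a) := by
  let e := tensorKaehlerEquivOfFormallyEtale k A B
  let f : Ω[A⁄k] →ₗ[A] B := (Algebra.linearMap A B) ∘ₗ d.liftKaehlerDifferential
  let g : TensorProduct A B (Ω[A⁄k]) →ₗ[B] B := LinearMap.liftBaseChange B f
  refine ⟨(g ∘ₗ e.symm.toLinearMap).compDer (D k B), fun a => ?_⟩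
  change g (e.symm (D k B (algebraMap A B a))) = _
  rw [tensorKaehlerEquivOfFormallyEtale_symm_D_algebraMap]
  simp only [g, LinearMap.liftBaseChange_tmul, one_smul]
  change algebraMap A B (d.liftKaehlerDifferential (D k A a)) = _
  rw [Derivation.liftKaehlerDifferential_comp_D]

variable (k : Type u) [Field k] (I : Type v)

/-- The polynomial ring in the variables `I`. -/
abbrev Rp : Type (max v u) := MvPolynomial I k

/-- The field of rational functions in the variables `I`. -/
abbrev Om : Type (max v u) := FractionRing (Rp k I)

variable {I}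

/-- The variable in the field. -/
noncomputable def U (τ : I) : Om k I := algebraMap (Rp k I) (Om k I) (MvPolynomial.X τ)

/-- The monomial in the field. -/
noncomputable def mon (α : I →₀ ℕ) : Om k I :=
  algebraMap (Rp k I) (Om k I) (MvPolynomial.monomial α 1)

theorem mon_zero : mon k (0 : I →₀ ℕ) = 1 := by
  rw [mon, MvPolynomial.monomial_zero']
  simp

theorem mon_add_single (α : I →₀ ℕ) (τ : I) :
    mon k (α + Finsupp.single τ 1) = U k τ * mon k α := by
  rw [mon, mon, U, ← map_mul, MvPolynomial.X, MvPolynomial.monomial_mul, one_mul, add_comm]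

instance formallyEtale : Algebra.FormallyEtale (Rp k I) (Om k I) :=
  Algebra.FormallyEtale.of_isLocalization (nonZeroDivisors (Rp k I))

/-- The partial derivative on the field of rational functions. -/
noncomputable def dd (τ : I) : Derivation k (Om k I) (Om k I) :=
  (exists_extend k (Rp k I) (Om k I) (MvPolynomial.pderiv τ)).choose

theorem dd_algebraMap (τ : I) (f : Rp k I) :
    dd k τ (algebraMap (Rp k I) (Om k I) f) =
      algebraMap (Rp k I) (Om k I) (MvPolynomial.pderiv τ f) :=
  (exists_extend k (Rp k I) (Om k I) (MvPolynomial.pderiv τ)).choose_spec f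

theorem dd_U_self (τ : I) : dd k τ (U k τ) = 1 := by
  rw [U, dd_algebraMap, MvPolynomial.pderiv_X_self, map_one]

theorem dd_U_ne {τ τ' : I} (h : τ ≠ τ') : dd k τ (U k τ') = 0 := by
  rw [U, dd_algebraMap, MvPolynomial.pderiv_X_of_ne (Ne.symm h), map_zero]

theorem dd_mon (τ : I) (α : I →₀ ℕ) :
    dd k τ (mon k α) = (α τ : Om k I) * mon k (α - Finsupp.single τ 1) := by
  rw [mon, mon, dd_algebraMap, MvPolynomial.pderiv_monomial, one_mul]
  rw [← mul_one ((α τ : k)), ← smul_eq_mul, ← MvPolynomial.smul_monomial, Algebra.smul_def, map_mul]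
  congr 1
  rw [MvPolynomial.algebraMap_eq, map_natCast, map_natCast]

end K52.Der
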