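import Groth.Agent.Coherent.K52.TowerH

/-!
# Descent of stable families of sections along the tower

A family `V r` of subspaces of the zero cycles of a level which is stable under the variables and the
operators. `local_desc`: its elements are locally generated by elements coming from `S₀`.
`map_eq_zero`: a morphism killing the elements coming from `S₀` in large degrees kills `V`.
-/

set_option autoImplicit false

universe u

open CategoryTheory CategoryTheory.Limits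

namespace K52.Desc

open Der Weyl Tower Inj HZ TowerH Groth.Agent.Fga.MumSys Groth.Agent.Fga.MumFinal
  Groth.Agent.Fga.MumSES

section Restrict

variable {k : Type u} [Field k] {I : Type*} {A M : Type*} [AddCommGroup A] [Module (Om k I) A]
  [AddCommGroup M] [Module k M] {J : Type*} [Fintype J] [DecidableEq J]

/-- Restriction of a chart to a subspace of `M`. -/
def restrict (C : Chart k I A M J) (M' : Submodule k M) (h : ∀ j e, e ∈ M' → C.x0 j e ∈ M') :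
    Chart k I A M' J where
  ι := C.ι.comp M'.subtype.toAddMonoidHom
  ι_smul c e := C.ι_smul c e
  x := C.x
  x_comm := C.x_comm
  x0 j :=
    { toFun e := ⟨C.x0 j e, h j e e.2⟩
      map_zero' := Subtype.ext (map_zero _)
      map_add' a b := Subtype.ext (map_add (C.x0 j) _ _) }
  ι_x j e := C.ι_x j e
  l := C.l
  Bad := C.Bad
  bad := C.bad

/-- Restriction of the operators. -/
def restrictOps {C : Chart k I A M J} (O : Ops C) (M' : Submodule k M)
    (h : ∀ j e, e ∈ M' → C.x0 j e ∈ M') : Ops (restrict C M' h) where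
  E := O.E
  E_mon τ hτ α hα e := O.E_mon τ hτ α hα e

end Restrict

variable {k : Type u} [Field k] {n : ℕ}

section Single

variable {m : ℕ} {K : Type u} [Field K] (S : Sys m K) (p : ℕ)

theorem X_single (j : Fin m) (r s : ℤ) (h : r + 1 = s) (w : (S.C r).X p) :
    X S p j (Pi.single r w) = Pi.single s ((S.x j r s h).f p w) := by
  subst h
  funext s
  rw [X_apply]
  by_cases hs : s = r + 1
  · subst hs
    rw [Pi.single_eq_same]
    have e : (r + 1 - 1 : ℤ) = r := by ring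
    have := x_congr S p j (Pi.single r w) (r + 1 - 1) (r + 1) (by ring)
    have h2 := x_congr S p j (Pi.single r w) r (r + 1) rfl
    rw [Pi.single_eq_same] at h2
    rw [this, ← h2]
  · rw [Pi.single_eq_of_ne hs, Pi.single_eq_of_ne (by omega), map_zero]

end Single

/-- A stable family of subspaces of the zero cycles. -/
structure Stab {S₀ : Sys (n + 1) k} {S : Sys (n + 1) (OO k n)} {t : ℕ} (L : Lev S₀ S t) where
  V : ∀ r : ℤ, Submodule (OO k n) ((S.C r).X 0)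
  cyc : ∀ r, V r ≤ Z (S.C r)
  x : ∀ (j : Fin (n + 1)) (r s : ℤ) (h : r + 1 = s) (v : (S.C r).X 0), v ∈ V r →
    (S.x j r s h).f 0 v ∈ V s
  op : ∀ δ (hδ : Sym t δ) (r s : ℤ) (h : r + 1 = s) (v : (S.C r).X 0), v ∈ V r →
    (L.op δ hδ).E 0 r s h v ∈ V s

namespace Stab

variable {S₀ : Sys (n + 1) k} {S : Sys (n + 1) (OO k n)} {t : ℕ} {L : Lev S₀ S t} (V : Stab L)

/-- The elements of `S₀` in the family. -/
def N (r : ℤ) : Submodule k ((S₀.C r).X 0) where
  carrier := {e | e ∈ Z (S₀.C r) ∧ L.ι 0 r e ∈ V.V r}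
  zero_mem' := ⟨Submodule.zero_mem _, by rw [map_zero]; exact Submodule.zero_mem _⟩
  add_mem' := by
    rintro a b ⟨ha, ha'⟩ ⟨hb, hb'⟩
    exact ⟨Submodule.add_mem _ ha hb, by rw [map_add]; exact Submodule.add_mem _ ha' hb'⟩
  smul_mem' := by
    rintro c a ⟨ha, ha'⟩
    exact ⟨Submodule.smul_mem _ _ ha, by rw [L.ι_smul]; exact Submodule.smul_mem _ _ ha'⟩

theorem x_mem_N (j : Fin (n + 1)) (r s : ℤ) (h : r + 1 = s) (e : (S₀.C r).X 0) (he : e ∈ V.N r) :
    (S₀.x j r s h).f 0 e ∈ V.N s := by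
  refine ⟨map_mem (S₀.x j r s h) he.1, ?_⟩
  rw [L.ι_x]
  exact V.x j r s h _ he.2

/-- The family as a subspace of the product. -/
def P : Submodule (OO k n) (Pr S 0) where
  carrier := {v | ∀ r, v r ∈ V.V r}
  zero_mem' := fun r => Submodule.zero_mem _
  add_mem' := fun ha hb r => Submodule.add_mem _ (ha r) (hb r)
  smul_mem' := fun c _ ha r => Submodule.smul_mem _ c (ha r)

theorem X_mem_P (j : Fin (n + 1)) {v : Pr S 0} (hv : v ∈ V.P) : X S 0 j v ∈ V.P := fun s =>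
  V.x j (s - 1) s _ _ (hv (s - 1))

theorem Xpow_mem_P (j : Fin (n + 1)) (N : ℕ) {v : Pr S 0} (hv : v ∈ V.P) :
    (X S 0 j ^ N) v ∈ V.P := by
  induction N with
  | zero => simpa using hv
  | succ N ih => rw [pow_succ', Module.End.mul_apply]; exact V.X_mem_P j ih

theorem op_mem_P {δ} (hδ : Sym t δ) {v : Pr S 0} (hv : v ∈ V.P) : opP (L.op δ hδ) 0 v ∈ V.P :=
  fun s => V.op δ hδ (s - 1) s _ _ (hv (s - 1))

/-- The cycles of `S₀`, as a subspace of the product. -/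
def cycP (S₀ : Sys (n + 1) k) : Submodule k (Pr S₀ 0) where
  carrier := {v | ∀ r, v r ∈ Z (S₀.C r)}
  zero_mem' := fun r => Submodule.zero_mem _
  add_mem' := fun ha hb r => Submodule.add_mem _ (ha r) (hb r)
  smul_mem' := fun c _ ha r => Submodule.smul_mem _ c (ha r)

theorem X_mem_cycP (j : Fin (n + 1)) (v : Pr S₀ 0) (hv : v ∈ cycP S₀) : X S₀ 0 j v ∈ cycP S₀ :=
  fun s => map_mem (S₀.x j (s - 1) s _) (hv (s - 1))

/-- Elements of the product lying in the span of the elements of `S₀` in the family. -/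
noncomputable def NP : Submodule (OO k n) (Pr S 0) :=
  Submodule.span (OO k n) ((ιP L 0) '' {e | e ∈ cycP S₀ ∧ ιP L 0 e ∈ V.P})

theorem X_mem_NP (j : Fin (n + 1)) {v : Pr S 0} (hv : v ∈ V.NP) : X S 0 j v ∈ V.NP := by
  have h1 := Submodule.mem_map_of_mem (f := X S 0 j) hv
  rw [NP, Submodule.map_span] at h1
  refine Submodule.span_mono ?_ h1
  rintro _ ⟨_, ⟨e, ⟨he, he'⟩, rfl⟩, rfl⟩
  have hx : ιP L 0 (X S₀ 0 j e) = X S 0 j (ιP L 0 e) := (chartOf L 0 j).ι_x j e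
  exact ⟨X S₀ 0 j e, ⟨X_mem_cycP j e he, by rw [hx]; exact V.X_mem_P j he'⟩, hx⟩

theorem Xpow_mem_NP_of_le (j : Fin (n + 1)) {v : Pr S 0} {N N' : ℕ} (h : N ≤ N')
    (hv : (X S 0 j ^ N) v ∈ V.NP) : (X S 0 j ^ N') v ∈ V.NP := by
  obtain ⟨d, rfl⟩ := Nat.exists_eq_add_of_le h
  clear h
  induction d with
  | zero => exact hv
  | succ d ih =>
    rw [← add_assoc, pow_succ', Module.End.mul_apply]
    exact V.X_mem_NP j ih

theorem apply_mem_of_mem_NP {v : Pr S 0} (hv : v ∈ V.NP) (s : ℤ) :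
    v s ∈ Submodule.span (OO k n) ((L.ι 0 s) '' (V.N s)) := by
  have h1 := Submodule.mem_map_of_mem (f := LinearMap.proj (R := OO k n)
    (φ := fun r => (S.C r).X 0) s) hv
  rw [NP, Submodule.map_span] at h1
  refine Submodule.span_mono ?_ h1
  rintro _ ⟨_, ⟨e, ⟨he, he'⟩, rfl⟩, rfl⟩
  exact ⟨e s, ⟨he s, he' s⟩, rfl⟩

theorem single_mem_P {r : ℤ} {w : (S.C r).X 0} (hw : w ∈ V.V r) : (Pi.single r w : Pr S 0) ∈ V.P := by
  intro s
  by_cases h : s = r
  · subst h; rwa [Pi.single_eq_same]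
  · rw [Pi.single_eq_of_ne h]; exact Submodule.zero_mem _

theorem Xpow_single (j : Fin (n + 1)) (r : ℤ) (w : (S.C r).X 0) (hw : w ∈ V.V r) (N : ℕ) (s : ℤ)
    (h : r + N = s) : ∃ w' ∈ V.V s, (X S 0 j ^ N) (Pi.single r w) = Pi.single s w' := by
  induction N generalizing s with
  | zero =>
    obtain rfl : r = s := by simpa using h
    exact ⟨w, hw, by simp⟩
  | succ N ih =>
    obtain ⟨w', hw', e⟩ := ih (r + N) rfl
    have h2 : (r + N) + 1 = s := by rw [← h]; push_cast; ring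
    refine ⟨(S.x j (r + N) s h2).f 0 w', V.x j _ _ h2 _ hw', ?_⟩
    rw [pow_succ', Module.End.mul_apply, e, X_single S 0 j _ _ h2]

/-- **Local descent.** -/
theorem local_desc [CharZero k] (hs : ∃ r₁ : ℤ, ∀ r : ℤ, r₁ ≤ r →
      Z (S.C r) ≤ Submodule.span (OO k n) (L.ι 0 r '' Z (S₀.C r)))
    (l : Fin (n + 1)) (r : ℤ) (w : (S.C r).X 0) (hw : w ∈ V.V r) :
    ∃ N₀ : ℕ, ∀ N, N₀ ≤ N → (X S 0 l ^ N) (Pi.single r w) ∈ V.NP := by
  obtain ⟨r₁, hr₁⟩ := hs
  let N₁ : ℕ := (r₁ - r).toNat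
  obtain ⟨w₁, hw₁, e₁⟩ := V.Xpow_single l r w hw N₁ (r + N₁) rfl
  have hr : r₁ ≤ r + N₁ := by omega
  -- the restricted chart
  let C := restrict (chartOf L 0 l) (cycP S₀) (fun j e he => X_mem_cycP j e he)
  let O : Ops C := restrictOps (opsOf L 0 l) (cycP S₀) (fun j e he => X_mem_cycP j e he)
  have h1 : (Pi.single (r + N₁) w₁ : Pr S 0) ∈ Submodule.span (OO k n) (Set.range C.ι) := by
    have h2 := hr₁ _ hr (V.cyc _ hw₁)
    have h3 := Submodule.mem_map_of_mem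
      (f := LinearMap.single (OO k n) (fun r => (S.C r).X 0) (r + N₁)) h2
    rw [Submodule.map_span] at h3
    refine Submodule.span_mono ?_ h3
    rintro _ ⟨_, ⟨e, he, rfl⟩, rfl⟩
    refine ⟨⟨Pi.single (r + N₁) e, ?_⟩, ?_⟩
    · intro s
      by_cases h : s = r + N₁
      · subst h; rwa [Pi.single_eq_same]
      · rw [Pi.single_eq_of_ne h]; exact Submodule.zero_mem _
    · funext s
      change L.ι 0 s ((Pi.single (r + N₁) e : Pr S₀ 0) s) = (Pi.single (r + N₁) (L.ι 0 _ e) : Pr S 0) s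
      by_cases h : s = r + N₁
      · subst h; rw [Pi.single_eq_same, Pi.single_eq_same]
      · rw [Pi.single_eq_of_ne h, Pi.single_eq_of_ne h, map_zero]
  obtain ⟨N₂, hN₂⟩ := chart O V.P (fun v hv => V.X_mem_P l hv)
    (fun τ _ v hv => V.op_mem_P (sym_symb t l τ) hv) (V.single_mem_P hw₁) h1
  have h4 : (X S 0 l ^ N₂) (Pi.single (r + N₁) w₁) ∈ V.NP := by
    refine Submodule.span_mono ?_ hN₂
    rintro _ ⟨e, he, rfl⟩
    exact ⟨e, ⟨e.2, he⟩, rfl⟩
  refine ⟨N₂ + N₁, fun N hN => V.Xpow_mem_NP_of_le l hN ?_⟩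
  rw [pow_add, Module.End.mul_apply, e₁]
  exact h4

end Stab

/-- A morphism of levels. -/
structure LHom {S₀ Q₀ : Sys (n + 1) k} {S Q : Sys (n + 1) (OO k n)} {t : ℕ} (L : Lev S₀ S t)
    (L' : Lev Q₀ Q t) where
  φ : Hom S₀ Q₀
  ψ : Hom S Q
  comm : ∀ (p : ℕ) (r : ℤ) (v : (S₀.C r).X p), (ψ.f r).f p (L.ι p r v) = L'.ι p r ((φ.f r).f p v)

/-- The morphism on products. -/
noncomputable def ψP {m : ℕ} {K : Type u} [Field K] {S Q : Sys m K} (ψ : Hom S Q) (p : ℕ) :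
    Pr S p →ₗ[K] Pr Q p :=
  LinearMap.pi fun r => ((ψ.f r).f p).hom ∘ₗ LinearMap.proj r

theorem ψP_apply {m : ℕ} {K : Type u} [Field K] {S Q : Sys m K} (ψ : Hom S Q) (p : ℕ) (v : Pr S p)
    (r : ℤ) : ψP ψ p v r = (ψ.f r).f p (v r) := rfl

theorem ψP_X {m : ℕ} {K : Type u} [Field K] {S Q : Sys m K} (ψ : Hom S Q) (p : ℕ) (j : Fin m)
    (v : Pr S p) : ψP ψ p (X S p j v) = X Q p j (ψP ψ p v) := by
  funext s
  exact congrArg (fun f => f.f p (v (s - 1))) (ψ.comm j (s - 1) s (by ring))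

theorem ψP_Xpow {m : ℕ} {K : Type u} [Field K] {S Q : Sys m K} (ψ : Hom S Q) (p : ℕ) (j : Fin m)
    (v : Pr S p) (N : ℕ) : ψP ψ p ((X S p j ^ N) v) = (X Q p j ^ N) (ψP ψ p v) := by
  induction N with
  | zero => simp
  | succ N ih => rw [pow_succ', Module.End.mul_apply, ψP_X, ih, pow_succ', Module.End.mul_apply]

/-- **Descent**: a morphism killing, in large degrees, the elements of `S₀` in the family kills the
family. -/
theorem map_eq_zero [CharZero k] {S₀ Q₀ : Sys (n + 1) k} {S Q : Sys (n + 1) (OO k n)} {t : ℕ}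
    {L : Lev S₀ S t} {L' : Lev Q₀ Q t} (φ : LHom L L') (V : Stab L)
    (hs : ∃ r₁ : ℤ, ∀ r : ℤ, r₁ ≤ r →
      Z (S.C r) ≤ Submodule.span (OO k n) (L.ι 0 r '' Z (S₀.C r)))
    (hN : ∃ m₀ : ℤ, ∀ m : ℤ, m₀ ≤ m → ∀ e ∈ V.N m, (φ.φ.f m).f 0 e = 0)
    (r : ℤ) (w : (S.C r).X 0) (hw : w ∈ V.V r) : (φ.ψ.f r).f 0 w = 0 := by
  obtain ⟨m₀, hm₀⟩ := hN
  have key : ψP φ.ψ 0 (Pi.single r w) = 0 := by
    refine X_pow_zero Q 0 _ fun l => ?_
    obtain ⟨N₀, hN₀⟩ := V.local_desc hs l r w hw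
    let N := max N₀ (m₀ - r).toNat
    refine ⟨N, ?_⟩
    rw [← ψP_Xpow]
    obtain ⟨w', hw', e⟩ := V.Xpow_single l r w hw N (r + N) rfl
    have h1 := V.apply_mem_of_mem_NP (hN₀ N (le_max_left _ _)) (r + N)
    rw [e, Pi.single_eq_same] at h1
    have hm : m₀ ≤ r + N := by
      have := le_max_right N₀ (m₀ - r).toNat
      change (m₀ - r).toNat ≤ N at this
      omega
    have h2 : (φ.ψ.f (r + N)).f 0 w' = 0 := by
      have h3 := Submodule.mem_map_of_mem (f := ((φ.ψ.f (r + N)).f 0).hom) h1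
      rw [Submodule.map_span] at h3
      have h4 : ((φ.ψ.f (r + N)).f 0).hom '' ((L.ι 0 (r + N)) '' (V.N (r + N))) ⊆ {0} := by
        rintro _ ⟨_, ⟨e, he, rfl⟩, rfl⟩
        rw [Set.mem_singleton_iff]
        refine (φ.comm 0 (r + N) e).trans ?_
        rw [hm₀ _ hm e he, map_zero]
      have h5 := Submodule.span_mono h4 h3
      rw [Submodule.span_singleton_eq_bot.2 rfl] at h5
      exact h5
    rw [e]
    funext s
    rw [ψP_apply]
    by_cases h : s = r + N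
    · subst h
      rw [Pi.single_eq_same]
      exact h2
    · rw [Pi.single_eq_of_ne h, map_zero]
      rfl
  have := congrFun key r
  rwa [ψP_apply, Pi.single_eq_same] at this

/-- The morphism of levels of a tower. -/
noncomputable def LH [CharZero k] {S₀ Q₀ : Sys (n + 1) k} (φ : Hom S₀ Q₀) (t : ℕ) :
    LHom (lev S₀ t) (lev Q₀ t) where
  φ := φ
  ψ := TH φ t
  comm p r v := TH_ι φ t p r v

/-- A stable family which comes from a subobject. -/
theorem eq_map [CharZero k] (E : SES (n + 1) k) (t : ℕ) (V : Stab (lev E.B t))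
    (hA : Serre E.A) (hB : Serre E.B)
    (h1 : ∃ m₀ : ℤ, ∀ m : ℤ, m₀ ≤ m → ∀ e ∈ V.N m, (E.g.f m).f 0 e = 0)
    (h2 : ∃ m₀ : ℤ, ∀ m : ℤ, m₀ ≤ m → ∀ e ∈ Z (E.A.C m), (E.f.f m).f 0 e ∈ V.N m) :
    ∃ m₁ : ℤ, ∀ m : ℤ, m₁ ≤ m →
      V.V m = (Z ((T E.A t).C m)).map (((TH E.f t).f m).f 0).hom := by
  obtain ⟨m₀, hm₀⟩ := h2
  obtain ⟨r₁, hr₁⟩ := span_Z E.A hA t
  refine ⟨max m₀ r₁, fun m hm => le_antisymm ?_ ?_⟩
  · intro w hw
    have h3 : ((TH E.g t).f m).f 0 w = 0 := map_eq_zero (LH E.g t) V (span_Z E.B hB t) h1 m w hw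
    obtain ⟨w', hw', e⟩ := exists_cycle (TH_exact E t m) w (V.cyc m hw) h3
    exact ⟨w', hw', e⟩
  · rintro _ ⟨w, hw, rfl⟩
    have h3 := Submodule.mem_map_of_mem (f := (((TH E.f t).f m).f 0).hom)
      (hr₁ m ((le_max_right _ _).trans hm) hw)
    rw [Submodule.map_span] at h3
    refine (Submodule.span_le.2 ?_) h3
    rintro _ ⟨_, ⟨e, he, rfl⟩, rfl⟩
    have h4 := (hm₀ m ((le_max_left _ _).trans hm) e he).2
    rw [← TH_ι] at h4
    exact h4

theorem finrank_eq [CharZero k] (E : SES (n + 1) k) (t : ℕ) (V : Stab (lev E.B t))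
    (hA : Serre E.A) (hB : Serre E.B)
    (h1 : ∃ m₀ : ℤ, ∀ m : ℤ, m₀ ≤ m → ∀ e ∈ V.N m, (E.g.f m).f 0 e = 0)
    (h2 : ∃ m₀ : ℤ, ∀ m : ℤ, m₀ ≤ m → ∀ e ∈ Z (E.A.C m), (E.f.f m).f 0 e ∈ V.N m) :
    ∃ m₁ : ℤ, ∀ m : ℤ, m₁ ≤ m → Module.finrank (OO k n) (V.V m) =
      Module.finrank (OO k n) (((T E.A t).C m).homology 0) := by
  obtain ⟨m₁, hm₁⟩ := eq_map E t V hA hB h1 h2
  refine ⟨m₁, fun m hm => ?_⟩
  rw [hm₁ m hm, ← finrank_Z]
  exact (Submodule.equivMapOfInjective _ (f_injective (TH_exact E t m) 0) _).finrank_eq.symm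

end K52.Desc
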