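import Groth.Agent.Fga.GrFam
import Mathlib.RingTheory.Polynomial.Basic

/-!
# Graded subspaces of a finitely generated graded family are generated in bounded degree
-/

set_option autoImplicit false

universe u

namespace K52.NoethFam

open Groth.Agent.Fga.GrFam

variable {K : Type u} [Field K] {m : ℕ} (F : Fam K (Fin m))

theorem pr_X_succ (j : Fin m) (q : ℕ) (w : F.Tot) : F.pr (q + 1) (F.X j w) = F.x j q (F.pr q w) := by
  induction w using Fam.tot_induction with
  | h0 => simp
  | hof r v =>
    rw [F.X_of]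
    by_cases h : r = q
    · subst h; rw [F.pr_of_self, F.pr_of_self]
    · rw [F.pr_of_ne (by omega), F.pr_of_ne h, map_zero]
  | hadd w w' h h' => rw [map_add, map_add, h, h', map_add, map_add]

theorem pr_X_zero (j : Fin m) (w : F.Tot) : F.pr 0 (F.X j w) = 0 := by
  induction w using Fam.tot_induction with
  | h0 => simp
  | hof r v => rw [F.X_of, F.pr_of_ne (by omega)]
  | hadd w w' h h' => rw [map_add, map_add, h, h', add_zero]

/-- A `K`-subspace stable under the variables is a submodule. -/
def toSub (D : Submodule K F.Tot) (hD : ∀ j, ∀ w ∈ D, F.X j w ∈ D) :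
    Submodule (MvPolynomial (Fin m) K) F.Tot where
  carrier := D
  zero_mem' := D.zero_mem
  add_mem' := D.add_mem
  smul_mem' p w hw := by
    change p • w ∈ D
    induction p using MvPolynomial.induction_on generalizing w with
    | C a => rw [F.C_smul]; exact D.smul_mem a hw
    | add p q hp hq => rw [add_smul]; exact D.add_mem (hp w hw) (hq w hw)
    | mul_X p j hp => rw [mul_smul, F.X_smul]; exact hp _ (hD j w hw)

variable (h0 : Module.Finite K (F.M 0))
  (hgen : ∀ q, ⨆ j, LinearMap.range (F.x j q) = ⊤)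

include h0 hgen in
theorem finite_tot : Module.Finite (MvPolynomial (Fin m) K) F.Tot := by
  obtain ⟨s, hs⟩ := (Module.Finite.fg_top (R := K) (M := F.M 0))
  classical
  refine ⟨⟨s.image (F.of 0), ?_⟩⟩
  rw [eq_top_iff]
  set P := Submodule.span (MvPolynomial (Fin m) K) (s.image (F.of 0) : Set F.Tot) with hP
  have hX : ∀ j, ∀ w ∈ P, F.X j w ∈ P := fun j w hw => by
    rw [← F.X_smul]; exact P.smul_mem _ hw
  have hK : ∀ (a : K), ∀ w ∈ P, a • w ∈ P := fun a w hw => by
    rw [← F.C_smul]; exact P.smul_mem _ hw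
  let P' : Submodule K F.Tot := ⟨⟨⟨P, P.add_mem⟩, P.zero_mem⟩, fun a w hw => hK a w hw⟩
  have key : ∀ q, ∀ v : F.M q, F.of q v ∈ P' := by
    intro q
    induction q with
    | zero =>
      intro v
      have hv : v ∈ Submodule.span K (s : Set (F.M 0)) := by rw [hs]; trivial
      have h1 := Submodule.mem_map_of_mem (f := F.of 0) hv
      rw [Submodule.map_span] at h1
      refine (Submodule.span_le.2 ?_) h1
      rintro _ ⟨a, ha, rfl⟩
      exact Submodule.subset_span (by simpa using ⟨a, ha, rfl⟩)
    | succ q ih =>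
      intro v
      have hv : v ∈ ⨆ j, LinearMap.range (F.x j q) := by rw [hgen]; trivial
      have h1 := Submodule.mem_map_of_mem (f := F.of (q + 1)) hv
      rw [Submodule.map_iSup] at h1
      refine (iSup_le ?_ : (⨆ j, Submodule.map (F.of (q + 1)) (LinearMap.range (F.x j q))) ≤ P') h1
      rintro j _ ⟨_, ⟨a, rfl⟩, rfl⟩
      rw [← F.X_of]
      exact hX j _ (ih a)
  rintro w -
  induction w using Fam.tot_induction with
  | h0 => exact P.zero_mem
  | hof q v => exact key q v
  | hadd w w' h h' => exact P.add_mem h h'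

include h0 hgen in
/-- Graded subspaces are generated in bounded degree. -/
theorem exists_gen (N : ∀ q, Submodule K (F.M q))
    (hN : ∀ j q v, v ∈ N q → F.x j q v ∈ N (q + 1)) :
    ∃ q₀, ∀ q, q₀ ≤ q → N (q + 1) ≤ ⨆ j, (N q).map (F.x j q) := by
  have hfin := finite_tot F h0 hgen
  have hnoeth : IsNoetherian (MvPolynomial (Fin m) K) F.Tot := isNoetherian_of_isNoetherianRing_of_finite _ _
  let P : ℕ →o Submodule (MvPolynomial (Fin m) K) F.Tot :=
    { toFun := fun i => Submodule.span _ {w | ∃ q ≤ i, ∃ v ∈ N q, w = F.of q v}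
      monotone' := by
        intro i j hij
        refine Submodule.span_mono ?_
        rintro w ⟨q, hq, v, hv, rfl⟩
        exact ⟨q, hq.trans hij, v, hv, rfl⟩ }
  obtain ⟨q₀, hq₀⟩ := monotone_stabilizes_iff_noetherian.2 hnoeth P
  refine ⟨q₀, fun q hq v hv => ?_⟩
  have h1 : F.of (q + 1) v ∈ P q₀ := by
    rw [hq₀ (q + 1) (by omega)]
    exact Submodule.subset_span ⟨q + 1, le_rfl, v, hv, rfl⟩
  -- the submodule of elements with good components
  let D : Submodule K F.Tot :=
    { carrier := {w | (∀ q, F.pr q w ∈ N q) ∧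
        ∀ q, q₀ ≤ q → F.pr (q + 1) w ∈ ⨆ j, (N q).map (F.x j q)}
      zero_mem' := ⟨fun q => by rw [map_zero]; exact Submodule.zero_mem _,
        fun q _ => by rw [map_zero]; exact Submodule.zero_mem _⟩
      add_mem' := fun ha hb => ⟨fun q => by rw [map_add]; exact Submodule.add_mem _ (ha.1 q) (hb.1 q),
        fun q hq => by rw [map_add]; exact Submodule.add_mem _ (ha.2 q hq) (hb.2 q hq)⟩
      smul_mem' := fun c a ha => ⟨fun q => by rw [map_smul]; exact Submodule.smul_mem _ c (ha.1 q),
        fun q hq => by rw [map_smul]; exact Submodule.smul_mem _ c (ha.2 q hq)⟩ }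
  have hD : ∀ j, ∀ w ∈ D, F.X j w ∈ D := by
    intro j w hw
    refine ⟨fun q => ?_, fun q _ => ?_⟩
    · rcases q with _ | q
      · rw [pr_X_zero]; exact Submodule.zero_mem _
      · rw [pr_X_succ]; exact hN j q _ (hw.1 q)
    · rw [pr_X_succ]
      exact (le_iSup (fun j => (N q).map (F.x j q)) j) ⟨_, hw.1 q, rfl⟩
  have h2 : P q₀ ≤ toSub F D hD := by
    refine Submodule.span_le.2 ?_
    rintro w ⟨p, hp, a, ha, rfl⟩
    change F.of p a ∈ D
    refine ⟨fun q => ?_, fun q hq => ?_⟩
    · by_cases h : p = q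
      · subst h; rwa [F.pr_of_self]
      · rw [F.pr_of_ne h]; exact Submodule.zero_mem _
    · rw [F.pr_of_ne (by omega)]; exact Submodule.zero_mem _
  have h3 := (h2 h1).2 q hq
  rwa [F.pr_of_self] at h3

end K52.NoethFam
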