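import Groth.Agent.Coherent.K52.HZ
import Groth.Agent.Coherent.K52.NoethFam
import Groth.Agent.Fga.MumFinal

/-!
# Graded families of cycles of a regular system
-/

set_option autoImplicit false

universe u

open CategoryTheory CategoryTheory.Limits

namespace K52.GenFam

open HZ Groth.Agent.Fga.MumSys Groth.Agent.Fga.MumCast Groth.Agent.Fga.MumFinal
  Groth.Agent.Fga.MumLES Groth.Agent.Fga.GrFam

section Abs

variable {m : ℕ} {K : Type u} [Field K] (S : Sys m K)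

theorem exists_reg (hS : Serre S) : ∃ μ : ℤ, Reg S μ := by
  obtain ⟨r₀, hr₀⟩ := id hS
  refine ⟨r₀ + m, fun i hi => ?_⟩
  rcases le_or_gt m i with h | h
  · exact van_top m K S hS i _ h hi
  · exact hr₀ _ (by omega) i hi

theorem gen_zmap {μ : ℤ} (h : GenBy S μ) (r s : ℤ) (hs : r + 1 = s) (hr : μ ≤ r) :
    ⨆ j, LinearMap.range (zmap (S.x j r s hs)) = ⊤ := by
  have h1 := congrArg (Submodule.map (equiv (S.C s)).symm.toLinearMap) (h r s hs hr)
  rw [Submodule.map_iSup, Submodule.map_top, LinearEquiv.range] at h1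
  rw [eq_top_iff, ← h1]
  refine iSup_mono fun j => ?_
  rintro _ ⟨_, ⟨v, rfl⟩, rfl⟩
  refine ⟨(equiv (S.C r)).symm v, ?_⟩
  rw [zmap_eq, LinearEquiv.apply_symm_apply]
  rfl

/-- The family of zero cycles in degrees `≥ μ`. -/
noncomputable def fam (μ : ℤ) : Fam K (Fin m) where
  M q := Z (S.C (μ + q))
  x j q := zmap (S.x j (μ + q) (μ + (q + 1 : ℕ)) (by push_cast; ring))
  comm i j q v := Subtype.ext (congrArg (fun f => f.f 0 (v : (S.C (μ + q)).X 0))
    (S.comm j i (μ + q) (μ + (q + 1 : ℕ)) (μ + ((q + 1 : ℕ) + 1 : ℕ)) (by push_cast; ring)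
      (by push_cast; ring)))

/-- Graded families of cycles are generated in bounded degree. -/
theorem exists_gen {μ : ℤ} (h : GenBy S μ) (hf : Module.Finite K (Z (S.C μ)))
    (N : ∀ r : ℤ, Submodule K (Z (S.C r)))
    (hN : ∀ j r s hs v, v ∈ N r → zmap (S.x j r s hs) v ∈ N s) :
    ∃ r₀ : ℤ, μ ≤ r₀ ∧ ∀ r s : ℤ, ∀ hs : r + 1 = s, r₀ ≤ r →
      N s ≤ ⨆ j, (N r).map (zmap (S.x j r s hs)) := by
  have hf0 : Module.Finite K ((fam S μ).M 0) := by
    have e : μ + ((0 : ℕ) : ℤ) = μ := by simp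
    change Module.Finite K (Z (S.C (μ + ((0 : ℕ) : ℤ))))
    rw [e]
    exact hf
  obtain ⟨q₀, hq₀⟩ := NoethFam.exists_gen (fam S μ) hf0
    (fun q => gen_zmap S h (μ + q) (μ + (q + 1 : ℕ)) (by push_cast; ring) (by omega))
    (fun q => N (μ + q)) (fun j q v hv => hN j _ _ _ v hv)
  refine ⟨μ + q₀, by omega, fun r s hs hr => ?_⟩
  obtain ⟨q, rfl⟩ : ∃ q : ℕ, r = μ + q := ⟨(r - μ).toNat, by omega⟩
  obtain rfl : s = μ + ((q + 1 : ℕ) : ℤ) := by rw [← hs]; push_cast; ring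
  exact hq₀ q (by omega)

/-- The part of a family inside the cycles. -/
noncomputable def inZ (N : ∀ r : ℤ, Submodule K ((S.C r).X 0)) (r : ℤ) : Submodule K (Z (S.C r)) :=
  (N r).comap (Z (S.C r)).subtype

theorem inZ_stable (N : ∀ r : ℤ, Submodule K ((S.C r).X 0))
    (hx : ∀ (j : Fin m) (r s : ℤ) (h : r + 1 = s) (v : (S.C r).X 0), v ∈ N r →
      (S.x j r s h).f 0 v ∈ N s) (j : Fin m) (r s : ℤ) (h : r + 1 = s) (v : Z (S.C r))
    (hv : v ∈ inZ S N r) : zmap (S.x j r s h) v ∈ inZ S N s := hx j r s h v hv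

/-- Propagation of the image of a morphism of systems. -/
theorem range_eq {L : Sys m K} (Φ : Hom L S) {r₀ : ℤ} (hL : GenBy L r₀)
    (N : ∀ r : ℤ, Submodule K (Z (S.C r)))
    (hN : ∀ j r s hs v, v ∈ N r → zmap (S.x j r s hs) v ∈ N s)
    (hgen : ∀ r s : ℤ, ∀ hs : r + 1 = s, r₀ ≤ r → N s ≤ ⨆ j, (N r).map (zmap (S.x j r s hs)))
    (h0 : LinearMap.range (zmap (Φ.f r₀)) = N r₀) (r : ℤ) (hr : r₀ ≤ r) :
    LinearMap.range (zmap (Φ.f r)) = N r := by
  have hc : ∀ (j : Fin m) (r s : ℤ) (hs : r + 1 = s) (v : Z (L.C r)),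
      zmap (Φ.f s) (zmap (L.x j r s hs) v) = zmap (S.x j r s hs) (zmap (Φ.f r) v) :=
    fun j r s hs v => Subtype.ext (congrArg (fun f => f.f 0 (v : (L.C r).X 0)) (Φ.comm j r s hs))
  have key : ∀ (p : ℕ) (r : ℤ), r = r₀ + p → LinearMap.range (zmap (Φ.f r)) = N r := by
    intro p
    induction p with
    | zero =>
      intro r hr
      obtain rfl : r = r₀ := by simpa using hr
      exact h0
    | succ p ih =>
      intro s hs
      have hr : r₀ + p + 1 = s := by rw [hs]; push_cast; ring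
      have h1 := ih (r₀ + p) rfl
      apply le_antisymm
      · rintro _ ⟨z, rfl⟩
        have hz : z ∈ ⨆ j, LinearMap.range (zmap (L.x j (r₀ + p) s hr)) := by
          rw [gen_zmap _ hL _ _ hr (by omega)]; trivial
        have h2 := Submodule.mem_map_of_mem (f := zmap (Φ.f s)) hz
        rw [Submodule.map_iSup] at h2
        refine (iSup_le ?_ : (⨆ j, Submodule.map (zmap (Φ.f s))
          (LinearMap.range (zmap (L.x j (r₀ + p) s hr)))) ≤ N s) h2
        rintro j _ ⟨_, ⟨v, rfl⟩, rfl⟩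
        rw [hc]
        refine hN j _ s hr _ ?_
        rw [← h1]
        exact ⟨v, rfl⟩
      · refine (hgen (r₀ + p) s hr (by omega)).trans (iSup_le fun j => ?_)
        rintro _ ⟨v, hv, rfl⟩
        have hv' : v ∈ N (r₀ + p) := hv
        rw [← h1] at hv'
        obtain ⟨w, rfl⟩ := hv'
        exact ⟨zmap (L.x j (r₀ + p) s hr) w, hc j _ s hr w⟩
  exact key (r - r₀).toNat r (by omega)

/-- The image of an epimorphic factor. -/
theorem map_eq {L G : Sys m K} (P : Hom L G) (Ι : Hom G S) (Φ : Hom L S) (r : ℤ)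
    (hcomp : P.f r ≫ Ι.f r = Φ.f r) (hsurj : Function.Surjective (zmap (P.f r)))
    (N : ∀ r : ℤ, Submodule K ((S.C r).X 0)) (hNZ : N r ≤ Z (S.C r))
    (h : LinearMap.range (zmap (Φ.f r)) = inZ S N r) :
    N r = (Z (G.C r)).map ((Ι.f r).f 0).hom := by
  have hc : ∀ v : Z (L.C r), (Ι.f r).f 0 (zmap (P.f r) v : (G.C r).X 0) =
      (zmap (Φ.f r) v : (S.C r).X 0) := fun v =>
    congrArg (fun f => f.f 0 (v : (L.C r).X 0)) hcomp
  apply le_antisymm
  · intro v hv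
    have hv' : (⟨v, hNZ hv⟩ : Z (S.C r)) ∈ inZ S N r := hv
    rw [← h] at hv'
    obtain ⟨w, hw⟩ := hv'
    exact ⟨zmap (P.f r) w, (zmap (P.f r) w).2, (hc w).trans (congrArg Subtype.val hw)⟩
  · rintro _ ⟨g, hg, rfl⟩
    obtain ⟨w, hw⟩ := hsurj ⟨g, hg⟩
    have h1 : zmap (Φ.f r) w ∈ inZ S N r := by rw [← h]; exact ⟨w, rfl⟩
    have h2 : (zmap (Φ.f r) w : (S.C r).X 0) ∈ N r := h1
    rw [← hc, hw] at h2
    exact h2

end Abs

end K52.GenFam

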