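import Groth.Prelude.Def_StabCat
import Mathlib.Algebra.Polynomial.Taylor
import Mathlib.Algebra.Polynomial.HasseDeriv
import Mathlib.Algebra.Polynomial.Roots
import Mathlib.RingTheory.Binomial
import Mathlib.Tactic.LinearCombination
import Mathlib.Tactic.Positivity
import Mathlib.Tactic.Linarith
import Mathlib.Tactic.FieldSimp

/-!
# Numerical lemmas: backward differences, counting
-/

set_option autoImplicit false

open Polynomial

namespace K52.Num

/-- Backward difference. -/
noncomputable def nab (P : ℚ[X]) : ℚ[X] := P - taylor (-1) P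

theorem eval_nab (P : ℚ[X]) (x : ℚ) : (nab P).eval x = P.eval x - P.eval (x - 1) := by
  rw [nab, eval_sub, taylor_eval, sub_eq_add_neg x 1]

theorem coeff_taylor_top {P : ℚ[X]} {e : ℕ} (hP : P.natDegree ≤ e) :
    (taylor (-1) P).coeff e = P.coeff e := by
  rw [taylor_coeff]
  have h1 : (hasseDeriv e P).natDegree < 1 := by
    have := natDegree_hasseDeriv_le P e
    omega
  rw [eval_eq_sum_range' h1, Finset.sum_range_one, hasseDeriv_coeff]
  simp

theorem coeff_taylor_one {P : ℚ[X]} {e : ℕ} (hP : P.natDegree ≤ e + 1) :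
    (taylor (-1) P).coeff e = P.coeff e - (e + 1) * P.coeff (e + 1) := by
  rw [taylor_coeff]
  have h1 : (hasseDeriv e P).natDegree < 2 := by
    have := natDegree_hasseDeriv_le P e
    omega
  rw [eval_eq_sum_range' h1, Finset.sum_range_succ, Finset.sum_range_one, hasseDeriv_coeff,
    hasseDeriv_coeff]
  have h2 : (1 + e).choose e = e + 1 := by rw [add_comm, Nat.choose_succ_self_right]
  rw [h2]
  simp only [zero_add, Nat.choose_self, Nat.cast_one, one_mul, pow_zero, mul_one, pow_one]
  rw [add_comm 1 e]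
  push_cast
  ring

theorem coeff_taylor_two {P : ℚ[X]} {e : ℕ} (hP : P.natDegree ≤ e + 2) :
    (taylor (-1) P).coeff e = P.coeff e - (e + 1) * P.coeff (e + 1) +
      (e + 1) * (e + 2) / 2 * P.coeff (e + 2) := by
  rw [taylor_coeff]
  have h1 : (hasseDeriv e P).natDegree < 3 := by
    have := natDegree_hasseDeriv_le P e
    omega
  rw [eval_eq_sum_range' h1, Finset.sum_range_succ, Finset.sum_range_succ, Finset.sum_range_one,
    hasseDeriv_coeff, hasseDeriv_coeff, hasseDeriv_coeff]
  have h2 : (1 + e).choose e = e + 1 := by rw [add_comm, Nat.choose_succ_self_right]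
  have h3 : (((2 + e).choose e : ℕ) : ℚ) = (e + 1) * (e + 2) / 2 := by
    have : (2 + e).choose e = (e + 2).choose 2 := by
      rw [add_comm, ← Nat.choose_symm (by omega : 2 ≤ e + 2)]
      congr 1
    rw [this, Nat.cast_choose_two]
    push_cast
    ring
  rw [h2, h3]
  simp only [zero_add, Nat.choose_self, Nat.cast_one, one_mul, pow_zero, mul_one, pow_one]
  rw [add_comm 1 e, add_comm 2 e]
  push_cast
  ring

theorem natDegree_nab_le {P : ℚ[X]} {e : ℕ} (hP : P.natDegree ≤ e + 1) : (nab P).natDegree ≤ e := by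
  rw [natDegree_le_iff_coeff_eq_zero]
  intro N hN
  rw [nab, coeff_sub]
  rcases Nat.lt_or_ge N (e + 2) with h | h
  · obtain rfl : N = e + 1 := by omega
    rw [coeff_taylor_top hP, sub_self]
  · rw [coeff_eq_zero_of_natDegree_lt (by omega), coeff_eq_zero_of_natDegree_lt, sub_zero]
    rw [natDegree_taylor]
    omega

open StabCat in
theorem alpha_nab {P : ℚ[X]} {e : ℕ} (hP : P.natDegree ≤ e + 1) :
    alpha e (nab P) = alpha (e + 1) P := by
  rw [alpha, alpha, nab, coeff_sub, coeff_taylor_one hP, Nat.factorial_succ]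
  push_cast
  ring

open StabCat in
theorem alpha_nab' {P : ℚ[X]} {e : ℕ} (hP : P.natDegree ≤ e + 2) :
    alpha e (nab P) = alpha (e + 1) P - alpha (e + 2) P / 2 := by
  rw [alpha, alpha, alpha, nab, coeff_sub, coeff_taylor_two hP, Nat.factorial_succ (e + 1),
    Nat.factorial_succ]
  push_cast
  ring

open StabCat in
/-- The iterated difference of a polynomial of degree at most `d + 1`. -/
theorem nab_iter (d : ℕ) (P : ℚ[X]) (hP : P.natDegree ≤ d + 1) :
    nab^[d] P = C (alpha (d + 1) P) * X + C (alpha d P - alpha (d + 1) P * d / 2) := by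
  induction d generalizing P with
  | zero =>
    rw [Function.iterate_zero, id_eq]
    have h1 := Polynomial.eq_X_add_C_of_natDegree_le_one (p := P) (by simpa using hP)
    conv_lhs => rw [h1]
    simp [alpha]
  | succ d ih =>
    rw [Function.iterate_succ_apply, ih (nab P) (natDegree_nab_le hP), alpha_nab hP, alpha_nab' hP]
    congr 2
    push_cast
    ring

theorem natDegree_nab_iter_le (t e : ℕ) (P : ℚ[X]) (hP : P.natDegree ≤ e + t) :
    (nab^[t] P).natDegree ≤ e := by
  induction t generalizing P with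
  | zero => simpa using hP
  | succ t ih =>
    rw [Function.iterate_succ_apply]
    exact ih _ (natDegree_nab_le (by omega))

open StabCat in
theorem alpha_nab_iter (t e : ℕ) (P : ℚ[X]) (hP : P.natDegree ≤ e + t) :
    alpha e (nab^[t] P) = alpha (e + t) P := by
  induction t generalizing P with
  | zero => simp
  | succ t ih =>
    rw [Function.iterate_succ_apply, ih _ (natDegree_nab_le (by omega)), alpha_nab (by omega)]
    rfl

open StabCat in
/-- If the `t`-th difference has degree `≤ e` then so has ... -/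
theorem natDegree_le_of_nab_iter (t e : ℕ) (P : ℚ[X]) (h : (nab^[t] P).natDegree ≤ e) :
    P.natDegree ≤ e + t := by
  by_contra hcon
  push Not at hcon
  obtain ⟨s, hs⟩ : ∃ s, P.natDegree = s + t := ⟨P.natDegree - t, by omega⟩
  have h1 := alpha_nab_iter t s P hs.le
  rw [alpha, coeff_eq_zero_of_natDegree_lt (by omega), mul_zero, ← hs, alpha, coeff_natDegree] at h1
  have h2 : ((P.natDegree.factorial : ℕ) : ℚ) ≠ 0 := by exact_mod_cast Nat.factorial_ne_zero _
  have h3 : P.leadingCoeff ≠ 0 := by
    rw [Ne, leadingCoeff_eq_zero]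
    rintro rfl
    simp at hs hcon
  exact mul_ne_zero h2 h3 h1.symm

/-- Polynomials agreeing on large integers are equal. -/
theorem eq_of_large (P Q : ℚ[X]) (r₀ : ℤ) (h : ∀ m : ℤ, r₀ ≤ m → P.eval (m : ℚ) = Q.eval (m : ℚ)) :
    P = Q := by
  apply Polynomial.eq_of_infinite_eval_eq
  refine Set.Infinite.mono (s := (fun m : ℤ => (m : ℚ)) '' Set.Ici r₀) ?_ ?_
  · rintro _ ⟨m, hm, rfl⟩
    exact h m hm
  · exact (Set.Ici_infinite r₀).image (Int.cast_injective.injOn)

/-- The binomial polynomials. -/
theorem exists_choose_poly (j : ℕ) : ∃ Q : ℚ[X], ∀ r : ℤ, Q.eval (r : ℚ) = ((Ring.choose r j : ℤ) : ℚ) := by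
  refine ⟨C ((j.factorial : ℚ)⁻¹) * descPochhammer ℚ j, fun r => ?_⟩
  have h1 := Ring.descPochhammer_eq_factorial_smul_choose r j
  have h2 : (((descPochhammer ℤ j).eval r : ℤ) : ℚ) = (descPochhammer ℚ j).eval (r : ℚ) := by
    have h3 := descPochhammer_map (Int.castRingHom ℚ) j
    rw [← h3, eval_map]
    have : (r : ℚ) = Int.castRingHom ℚ r := rfl
    rw [this, eval₂_at_apply]
    rfl
  rw [eval_mul, eval_C, ← h2]
  have h4 : (descPochhammer ℤ j).eval r = (j.factorial : ℤ) * Ring.choose r j := by
    rw [← smeval_eq_eval_int, h1, nsmul_eq_mul]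
  rw [h4]
  have h5 : ((j.factorial : ℕ) : ℚ) ≠ 0 := by exact_mod_cast Nat.factorial_ne_zero _
  push_cast
  field_simp
where
  smeval_eq_eval_int {p : ℤ[X]} {r : ℤ} : p.smeval r = p.eval r := by
    rw [eval_eq_smeval]

end K52.Num
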