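import Groth.Agent.Coherent.K52.KeySheaf
import Groth.Agent.Coherent.K52.Num
import Groth.Agent.ShStab.K847.HilbBasic
import Groth.Agent.VarietyA.AmpleField
import Groth.Agent.Sga67.SerreVB
import Groth.Agent.Fga.MumInputs
import Groth.Agent.Fga.MumHilb
import Groth.Agent.VarietyB.EulerBinom

/-!
# Hilbert polynomials and the tower

`HP k F P`: the Hilbert polynomial of `F` on `P^n_k` is `P`, for all integral twists.
-/

set_option autoImplicit false

universe u

open CategoryTheory CategoryTheory.Limits AlgebraicGeometry Opposite TopologicalSpace Polynomial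

namespace K52.HP

open HZ SecZ Tower TowerH Desc Key SubGen KeySheaf Num Groth.Agent Groth.Agent.Fga Groth.Agent.Fga.MumCech
  Groth.Agent.Fga.MumDict Groth.Agent.Fga.MumSES Groth.Agent.Fga.PicMon
  Groth.Agent.Fga.TwistGr Groth.Agent.Fga.MumSys Groth.Agent.Fga.MumCast Groth.Agent.Fga.MumFinal
  Groth.Agent.Fga.MumLES Groth.Agent.Fga.MumReg Groth.Agent.PerfB.TwistDer Groth.Agent.Fga.GrFam

section Tw

variable (k : Type u) [Field k] (n : ℕ)

/-- `O(r)`. -/
noncomputable abbrev O (r : ℤ) : (PP k n).Modules := Twist.twistProjSpace n k r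

theorem mc_O_mul (a b : ℤ) : mc (O k n a) * mc (O k n b) = mc (O k n (a + b)) := by
  rw [← mc_tensor]
  exact mc_eq (Sga67.SerreVB.nonempty_twist_mul n k a b).some

theorem mc_O_zero : mc (O k n 0) = 1 := mc_eq (Sga67.SerreVB.nonempty_twist_zero n k).some

variable {k n}

theorem mc_tw (F : (PP k n).Modules) (a : ℤ) : mc (tw F a) = mc F * mc (O k n a) := mc_tensor _ _

theorem tw_tw (F : (PP k n).Modules) (a b : ℤ) : Nonempty (tw (tw F a) b ≅ tw F (a + b)) := by
  rw [← mc_eq_iff, mc_tw, mc_tw, mc_tw, mul_assoc, mc_O_mul]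

theorem tw_zero (F : (PP k n).Modules) : Nonempty (tw F 0 ≅ F) := by
  rw [← mc_eq_iff, mc_tw, mc_O_zero, mul_one]

theorem tw_congr {F G : (PP k n).Modules} (e : F ≅ G) (a : ℤ) : Nonempty (tw F a ≅ tw G a) :=
  ⟨(DCoh.tensorRightMod (Twist.twistProjSpace n k a)).mapIso e⟩

theorem twist_iso (F : (PP k n).Modules) (m : ℕ) :
    Nonempty (ShStab.twist (PP k n) (O k n 1) F m ≅ tw F (m : ℤ)) := by
  obtain ⟨e'⟩ := Ega3B.ProjFrame.nonempty_twistProjSpace_iso n k m
  rw [← mc_eq_iff, mc_tw, mc_eq e', mc_tensorPow]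
  unfold ShStab.twist
  rw [mc_tensor, mc_tensorPow]

variable (k n)

theorem isAmple_O_one : CohB1.IsAmple (O k n 1) := VarietyA.AmpleField.isAmple_twistProjSpace n k

end Tw

variable (k : Type u) [Field k] {n : ℕ}

/-- `P` is the Hilbert polynomial of `F`. -/
def HP (F : (PP k n).Modules) (P : ℚ[X]) : Prop :=
  ∀ t : ℤ, (Curv2.euler k (PP k n) (tw F t) : ℚ) = P.eval (t : ℚ)

variable {k}

theorem isHilbPoly_of_HP {F : (PP k n).Modules} {P : ℚ[X]} (h : HP k F P) :
    ShStab.IsHilbPoly k (PP k n) (O k n 1) F P := by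
  intro m
  rw [K847.HilbBasic.euler_congr k (twist_iso F m).some, h (m : ℤ)]
  norm_cast

theorem HP_of_isHilbPoly {F : (PP k n).Modules} (hF : Coh.IsCoh F) {P : ℚ[X]}
    (h : ShStab.IsHilbPoly k (PP k n) (O k n 1) F P) : HP k F P := by
  intro t
  obtain ⟨Q, hQ⟩ := K847.HilbBasic.exists_hilbPoly k (isAmple_O_one k n).1
    (F := tw F t) (VarietyB.EulerBinom.isCoh_tensor_twist k n hF t)
  have h1 : Q = P.comp (X + C (t : ℚ)) := by
    refine K847.PolyOrd.eq_of_eval_large (-t).toNat fun m hm => ?_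
    obtain ⟨s, hs⟩ : ∃ s : ℕ, (s : ℤ) = t + m := ⟨(t + m).toNat, by omega⟩
    have e1 : Nonempty (ShStab.twist (PP k n) (O k n 1) (tw F t) m ≅
        ShStab.twist (PP k n) (O k n 1) F s) := by
      rw [← mc_eq_iff, mc_eq (twist_iso (tw F t) m).some, mc_eq (tw_tw F t m).some,
        mc_eq (twist_iso F s).some, hs]
    rw [← hQ m, K847.HilbBasic.euler_congr k e1.some, h s, eval_comp, eval_add, eval_X, eval_C]
    congr 1
    have : ((s : ℤ) : ℚ) = ((t + m : ℤ) : ℚ) := by rw [hs]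
    push_cast at this
    rw [this]
    ring
  have h2 := hQ 0
  have e2 : Nonempty (ShStab.twist (PP k n) (O k n 1) (tw F t) 0 ≅ tw F t) := by
    rw [← mc_eq_iff, mc_eq (twist_iso (tw F t) 0).some, mc_eq (tw_tw F t _).some]
    simp
  rw [K847.HilbBasic.euler_congr k e2.some, h1, eval_comp] at h2
  rw [h2]
  simp

theorem exists_HP {F : (PP k n).Modules} (hF : Coh.IsCoh F) : ∃ P : ℚ[X], HP k F P := by
  obtain ⟨P, hP⟩ := K847.HilbBasic.exists_hilbPoly k (isAmple_O_one k n).1 hF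
  exact ⟨P, HP_of_isHilbPoly hF hP⟩

theorem HP_unique {F : (PP k n).Modules} {P Q : ℚ[X]} (hP : HP k F P) (hQ : HP k F Q) : P = Q :=
  K847.HilbBasic.hilbPoly_unique k (isHilbPoly_of_HP hP) (isHilbPoly_of_HP hQ)

theorem HP_iso {F G : (PP k n).Modules} (e : F ≅ G) {P : ℚ[X]} (hP : HP k F P) : HP k G P := by
  intro t
  rw [← hP t, K847.HilbBasic.euler_congr k (tw_congr e t).some]

theorem van_C {F : (PP k n).Modules} (hF : Coh.IsCoh F) (i : ℕ) (r : ℤ) (hi : n + 1 < i) :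
    Subsingleton (((Fsys k n F).C r).homology i) :=
  van_top (n + 1) k (Fsys k n F) (serre_sys k n F hF) i r hi.le (by omega)

theorem chi_eq {F : (PP k n).Modules} (hF : Coh.IsCoh F) {P : ℚ[X]} (hP : HP k F P) (r : ℤ) :
    (chi (n + 1) ((Fsys k n F).C r) : ℚ) = P.eval (r : ℚ) := by
  obtain ⟨a, ha⟩ := MumHilb.hilb (n + 1) (n + 1) k (Fsys k n F) (finite_homology F hF)
    (fun i r hi => van_C hF i r hi)
  choose Q hQ using exists_choose_poly
  have h1 : ∀ r : ℤ, (chi (n + 1) ((Fsys k n F).C r) : ℚ) =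
      (∑ j : Fin (n + 1), C (a j : ℚ) * Q j).eval (r : ℚ) := by
    intro r
    rw [ha r, eval_finsetSum]
    push_cast
    exact Finset.sum_congr rfl fun j _ => by rw [eval_mul, eval_C, hQ]
  obtain ⟨r₀, hr₀⟩ := chi_large (n + 1) (Fsys k n F) (serre_sys k n F hF)
  obtain ⟨r₁, hr₁⟩ := Fga.MumInputs.serre k n F hF
  have h2 : (∑ j : Fin (n + 1), C (a j : ℚ) * Q j) = P := by
    refine eq_of_large _ _ (max r₀ r₁) fun m hm => ?_
    rw [← h1 m, ← hP m, euler_large F m (hr₁ m ((le_max_right _ _).trans hm)),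
      hr₀ m ((le_max_left _ _).trans hm), finrank_zero]
  rw [h1 r, h2]

variable [CharZero k]

theorem chiT_eq {F : (PP k n).Modules} (hF : Coh.IsCoh F) {P : ℚ[X]} (hP : HP k F P) (t : ℕ) (m : ℤ) :
    (chi (n + 1) ((T (Fsys k n F) t).C m) : ℚ) = (nab^[t] P).eval (m : ℚ) := by
  induction t generalizing m with
  | zero => rw [chi_T_zero, chi_eq hF hP]; rfl
  | succ t ih =>
    rw [chi_T_succ (Fsys k n F) (n + 1) (finite_homology F hF) (fun i r hi => van_C hF i r hi),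
      Function.iterate_succ_apply', eval_nab, ← ih]
    push_cast
    rw [ih (m - 1)]
    push_cast
    rfl

theorem hd_large {F : (PP k n).Modules} (hF : Coh.IsCoh F) {P : ℚ[X]} (hP : HP k F P) (t : ℕ) :
    ∃ m₀ : ℤ, ∀ m : ℤ, m₀ ≤ m → (hd F t m : ℚ) = (nab^[t] P).eval (m : ℚ) := by
  obtain ⟨r₀, hr₀⟩ := chi_large (n + 1) (T (Fsys k n F) t) (serre_T _ (serre_sys k n F hF) t)
  refine ⟨r₀, fun m hm => ?_⟩
  rw [← chiT_eq hF hP, hr₀ m hm]
  rfl

end K52.HP
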