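import Groth.Agent.Fga.MumLES
import Groth.Agent.Fga.MumSES

/-!
# Degree zero homology as a kernel
-/

set_option autoImplicit false

universe u

open CategoryTheory CategoryTheory.Limits

namespace K52.HZ

open Groth.Agent.Fga.MumLES Groth.Agent.Fga.MumSES

variable {K : Type u} [Field K]

/-- The zero cycles. -/
noncomputable def Z (C : CochainComplex (ModuleCat.{u} K) ℕ) : Submodule K (C.X 0) :=
  LinearMap.ker (C.d 0 1).hom

theorem mem_Z (C : CochainComplex (ModuleCat.{u} K) ℕ) (v : C.X 0) :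
    v ∈ Z C ↔ C.d 0 1 v = 0 := Iff.rfl

theorem iCycles_injective (C : CochainComplex (ModuleCat.{u} K) ℕ) :
    Function.Injective (C.iCycles 0).hom := (ModuleCat.mono_iff_injective _).1 inferInstance

theorem range_iCycles (C : CochainComplex (ModuleCat.{u} K) ℕ) :
    LinearMap.range (C.iCycles 0).hom = Z C := by
  have hex : (ShortComplex.mk (C.iCycles 0) (C.d 0 1) (C.iCycles_d 0 1)).Exact :=
    ShortComplex.exact_of_f_is_kernel _ (C.cyclesIsKernel 0 1 (by simp))
  exact hex.moduleCat_range_eq_ker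

/-- The cycles as a homology object. -/
noncomputable def cyc (C : CochainComplex (ModuleCat.{u} K) ℕ) : C.cycles 0 ≃ₗ[K] Z C :=
  (LinearEquiv.ofInjective _ (iCycles_injective C)).trans (LinearEquiv.ofEq _ _ (range_iCycles C))

theorem cyc_coe (C : CochainComplex (ModuleCat.{u} K) ℕ) (c : C.cycles 0) :
    (cyc C c : C.X 0) = C.iCycles 0 c := rfl

/-- Degree zero homology. -/
noncomputable def equiv (C : CochainComplex (ModuleCat.{u} K) ℕ) : Z C ≃ₗ[K] C.homology 0 :=
  (cyc C).symm.trans (CochainComplex.isoHomologyπ₀ C).toLinearEquiv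

theorem equiv_cyc (C : CochainComplex (ModuleCat.{u} K) ℕ) (c : C.cycles 0) :
    equiv C (cyc C c) = C.homologyπ 0 c := by
  change (CochainComplex.isoHomologyπ₀ C).hom.hom ((cyc C).symm (cyc C c)) = _
  rw [LinearEquiv.symm_apply_apply]
  rfl

theorem map_mem {C D : CochainComplex (ModuleCat.{u} K) ℕ} (f : C ⟶ D) {v : C.X 0} (hv : v ∈ Z C) :
    f.f 0 v ∈ Z D := by
  rw [mem_Z] at hv ⊢
  have h1 := congrArg (fun g => g v) (f.comm 0 1)
  refine Eq.trans h1 ?_
  exact (congrArg (f.f 1) hv).trans (map_zero _)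

/-- The induced map on cycles. -/
noncomputable def zmap {C D : CochainComplex (ModuleCat.{u} K) ℕ} (f : C ⟶ D) : Z C →ₗ[K] Z D :=
  (f.f 0).hom.restrict fun _ hv => map_mem f hv

theorem zmap_coe {C D : CochainComplex (ModuleCat.{u} K) ℕ} (f : C ⟶ D) (v : Z C) :
    (zmap f v : D.X 0) = f.f 0 v := rfl

theorem equiv_map {C D : CochainComplex (ModuleCat.{u} K) ℕ} (f : C ⟶ D) (v : Z C) :
    equiv D (zmap f v) = Hmap f 0 (equiv C v) := by
  obtain ⟨c, rfl⟩ := (cyc C).surjective v
  have h1 : zmap f (cyc C c) = cyc D ((HomologicalComplex.cyclesMap f 0) c) := by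
    apply Subtype.ext
    rw [zmap_coe, cyc_coe, cyc_coe]
    exact (congrArg (fun g => g c) (HomologicalComplex.cyclesMap_i f 0)).symm
  rw [h1, equiv_cyc, equiv_cyc]
  exact (congrArg (fun g => g c) (HomologicalComplex.homologyπ_naturality f 0)).symm

theorem zmap_eq {C D : CochainComplex (ModuleCat.{u} K) ℕ} (f : C ⟶ D) (v : Z C) :
    zmap f v = (equiv D).symm (Hmap f 0 (equiv C v)) := by
  rw [← equiv_map, LinearEquiv.symm_apply_apply]

theorem zmap_surjective_iff {C D : CochainComplex (ModuleCat.{u} K) ℕ} (f : C ⟶ D) :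
    Function.Surjective (zmap f) ↔ Function.Surjective (Hmap f 0) := by
  constructor
  · intro h y
    obtain ⟨v, hv⟩ := h ((equiv D).symm y)
    exact ⟨equiv C v, by rw [← equiv_map, hv, LinearEquiv.apply_symm_apply]⟩
  · intro h y
    obtain ⟨v, hv⟩ := h (equiv D y)
    refine ⟨(equiv C).symm v, ?_⟩
    rw [zmap_eq, LinearEquiv.apply_symm_apply, hv, LinearEquiv.symm_apply_apply]

theorem zmap_injective {C D : CochainComplex (ModuleCat.{u} K) ℕ} (f : C ⟶ D)
    (h : Function.Injective (f.f 0).hom) : Function.Injective (zmap f) := by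
  intro v w hvw
  apply Subtype.ext
  exact h (congrArg Subtype.val hvw)

theorem finrank_Z (C : CochainComplex (ModuleCat.{u} K) ℕ) :
    Module.finrank K (Z C) = Module.finrank K (C.homology 0) := (equiv C).finrank_eq

theorem finite_Z_iff (C : CochainComplex (ModuleCat.{u} K) ℕ) :
    Module.Finite K (Z C) ↔ Module.Finite K (C.homology 0) :=
  ⟨fun _ => Module.Finite.equiv (equiv C), fun _ => Module.Finite.equiv (equiv C).symm⟩

section SES

variable {S : ShortComplex (CochainComplex (ModuleCat.{u} K) ℕ)} (hS : S.ShortExact)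

include hS

theorem deg (p : ℕ) : (ShortComplex.mk (S.f.f p) (S.g.f p)
    (by rw [← HomologicalComplex.comp_f, S.zero]; rfl)).ShortExact :=
  (HomologicalComplex.shortExact_iff_degreewise_shortExact _).1 hS p

theorem f_injective (p : ℕ) : Function.Injective (S.f.f p).hom := (deg hS p).moduleCat_injective_f

theorem g_surjective (p : ℕ) : Function.Surjective (S.g.f p).hom := (deg hS p).moduleCat_surjective_g

theorem fg_exact (p : ℕ) : Function.Exact (S.f.f p).hom (S.g.f p).hom := exact_fun (deg hS p).exact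

/-- A cycle mapping to zero comes from a cycle. -/
theorem exists_cycle (v : S.X₂.X 0) (hv : v ∈ Z S.X₂) (h : S.g.f 0 v = 0) :
    ∃ w ∈ Z S.X₁, S.f.f 0 w = v := by
  obtain ⟨w, hw⟩ := (fg_exact hS 0 v).1 h
  refine ⟨w, ?_, hw⟩
  rw [mem_Z]
  apply f_injective hS 1
  have h1 := congrArg (fun g => g w) (S.f.comm 0 1)
  refine Eq.trans h1.symm ?_
  refine Eq.trans ?_ (map_zero _).symm
  refine Eq.trans (congrArg (S.X₂.d 0 1) hw) ?_
  exact hv

theorem zmap_surjective (h : Subsingleton (S.X₁.homology 1)) : Function.Surjective (zmap S.g) :=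
  (zmap_surjective_iff S.g).2 (surj_g hS 0 h)

end SES

end K52.HZ
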