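import Groth.Agent.Coherent.K52.Tower

/-!
# The generic linear forms are injective on the tower

* `Pi`: the product of the terms of a system over all degrees, with the endomorphisms `X j`;
* `chartOf`, `opsOf`: the chart and the operators of a level, for the elimination argument;
* `lin_injective`: `λ_t` is injective on level `t`.
-/

set_option autoImplicit false

universe u

open CategoryTheory CategoryTheory.Limits
open scoped TensorProduct

namespace K52.Inj

open Der Weyl Tower Groth.Agent.Fga.MumSys Groth.Agent.Fga.MumBC Groth.Agent.Fga.MumSES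

section Prod

variable {m : ℕ} {K : Type u} [Field K] (S : Sys m K) (p : ℕ)

/-- The product of the terms in position `p` over all degrees. -/
abbrev Pr : Type u := ∀ r : ℤ, (S.C r).X p

/-- The variable as an endomorphism of the product. -/
noncomputable def X (j : Fin m) : Pr S p →ₗ[K] Pr S p :=
  LinearMap.pi fun s => ((S.x j (s - 1) s (by ring)).f p).hom ∘ₗ LinearMap.proj (s - 1)

theorem X_apply (j : Fin m) (v : Pr S p) (s : ℤ) :
    X S p j v s = (S.x j (s - 1) s (by ring)).f p (v (s - 1)) := rfl

/-- `x` applied to a component. -/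
theorem x_congr (j : Fin m) (v : Pr S p) (r s : ℤ) (h : r + 1 = s) :
    (S.x j r s h).f p (v r) = X S p j v s := by
  obtain rfl : r = s - 1 := by omega
  rfl

theorem X_comm (i j : Fin m) (v : Pr S p) : X S p i (X S p j v) = X S p j (X S p i v) := by
  funext s
  exact congrArg (fun f => f.f p (v (s - 1 - 1))) (S.comm j i (s - 1 - 1) (s - 1) s _ _)

theorem ex_zero (r : ℤ) (v : (S.C r).X p) (hv : ∀ j s (h : r + 1 = s), (S.x j r s h).f p v = 0) :
    v = 0 := by
  obtain ⟨y, h1, h2⟩ := S.ex p
  have e2 : ∑ i, (S.x i r (r + 1) rfl).f p ≫ y i r (r + 1) rfl = 𝟙 _ := by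
    rw [← h2 (r - 1) r (by ring)]
    exact Finset.sum_congr rfl fun i _ => (h1 i i (r - 1) r (r + 1) (by ring) rfl).symm
  have e3 := congrArg (fun f => f.hom v) e2
  simp only [ModuleCat.hom_id, LinearMap.id_coe, id_eq] at e3
  rw [← e3, ModuleCat.hom_sum, LinearMap.sum_apply]
  refine Finset.sum_eq_zero fun i _ => ?_
  rw [ModuleCat.hom_comp, LinearMap.comp_apply]
  have := hv i (r + 1) rfl
  exact (congrArg (y i r (r + 1) rfl).hom this).trans (map_zero _)

theorem X_zero (v : Pr S p) (hv : ∀ j, X S p j v = 0) : v = 0 := by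
  funext r
  refine ex_zero S p r (v r) fun j s h => ?_
  rw [x_congr, hv]
  rfl

theorem X_pow_zero [NeZero m] (v : Pr S p) (hv : ∀ j, ∃ N, (X S p j ^ N) v = 0) : v = 0 :=
  eq_zero_of_pow (X S p) (X_comm S p) (X_zero S p) v hv

end Prod

variable {k : Type u} [Field k] {n : ℕ} {S₀ : Sys (n + 1) k} {S : Sys (n + 1) (OO k n)} {t : ℕ}

/-- The comparison map on products. -/
noncomputable def ιP (L : Lev S₀ S t) (p : ℕ) : Pr S₀ p →+ Pr S p where
  toFun v := fun r => L.ι p r (v r)
  map_zero' := by funext r; exact map_zero _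
  map_add' v w := by funext r; exact map_add _ _ _

/-- The operator on products. -/
noncomputable def opP {δ : Fin (n + 1) → Derivation k (OO k n) (OO k n)} (O : Op S δ) (p : ℕ) :
    Pr S p →+ Pr S p where
  toFun v := fun s => O.E p (s - 1) s (by ring) (v (s - 1))
  map_zero' := by funext r; exact map_zero _
  map_add' v w := by funext r; exact map_add _ _ _

theorem opP_apply {δ : Fin (n + 1) → Derivation k (OO k n) (OO k n)} (O : Op S δ) (p : ℕ)
    (v : Pr S p) (s : ℤ) : opP O p v s = O.E p (s - 1) s (by ring) (v (s - 1)) := rfl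

theorem opP_smul {δ : Fin (n + 1) → Derivation k (OO k n) (OO k n)} (O : Op S δ) (p : ℕ)
    (c : OO k n) (v : Pr S p) : opP O p (c • v) = c • opP O p v + ∑ j, δ j c • X S p j v := by
  funext s
  rw [opP_apply, Pi.add_apply, Pi.smul_apply, Pi.smul_apply, O.smul, opP_apply]
  congr 1
  rw [Finset.sum_apply]
  rfl

theorem opP_X {δ : Fin (n + 1) → Derivation k (OO k n) (OO k n)} (O : Op S δ) (p : ℕ)
    (j : Fin (n + 1)) (v : Pr S p) : opP O p (X S p j v) = X S p j (opP O p v) := by
  funext s
  exact O.x p j (s - 1 - 1) (s - 1) s _ _ (v (s - 1 - 1))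

variable (L : Lev S₀ S t)

theorem opP_ι (δ : Fin (n + 1) → Derivation k (OO k n) (OO k n)) (hδ : Sym t δ) (p : ℕ)
    (e : Pr S₀ p) : opP (L.op δ hδ) p (ιP L p e) = 0 := by
  funext s
  exact L.op_ι δ hδ p _ _ _ _

include L in
/-- The relations on products. -/
theorem rel_X (p : ℕ) (i : ℕ) (hi : i < t) (v : Pr S p) : ∑ j, U k (i, j) • X S p j v = 0 := by
  funext s
  have h1 := L.rel i hi (s - 1) s (by ring)
  have h2 := lin_apply S (uu k n i) p (s - 1) s (by ring) (v (s - 1))
  rw [h1] at h2
  rw [Finset.sum_apply]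
  exact h2.symm

/-- The chart `x l ≠ 0`. -/
noncomputable def chartOf (p : ℕ) (l : Fin (n + 1)) :
    Chart k (II n) (Pr S p) (Pr S₀ p) (Fin (n + 1)) where
  ι := ιP L p
  ι_smul c e := by funext r; exact L.ι_smul p r c (e r)
  x := X S p
  x_comm := X_comm S p
  x0 j := (X S₀ p j).toAddMonoidHom
  ι_x j e := by funext s; exact L.ι_x p j _ _ _ _
  l := l
  Bad τ := τ.1 < t ∧ τ.2 = l
  bad := by
    rintro ⟨i, l'⟩ ⟨hi, hl⟩
    dsimp only at hi hl
    subst hl
    refine ⟨fun j => (i, j), fun j hj h => hj h.2, fun v => ?_⟩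
    have h1 := rel_X L p i hi v
    rw [← Finset.add_sum_erase _ _ (Finset.mem_univ l')] at h1
    exact eq_neg_of_add_eq_zero_left h1

open Classical in
/-- The symbols of the good operators. -/
noncomputable def symb (t : ℕ) (l : Fin (n + 1)) (τ : II n) :
    Fin (n + 1) → Derivation k (OO k n) (OO k n) :=
  if t ≤ τ.1 then Pi.single l (dd k τ)
  else Pi.single l (dd k τ) - Pi.single τ.2 (dd k (τ.1, l))

theorem dd_uu (τ : II n) (i : ℕ) (j : Fin (n + 1)) (h : τ.1 ≠ i) : dd k τ (U k (i, j)) = 0 :=
  dd_U_ne k (fun h' => h (by rw [h']))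

theorem dd_U_eq (τ σ : II n) : dd k τ (U k σ) = if τ = σ then 1 else 0 := by
  split_ifs with h
  · subst h; exact dd_U_self k τ
  · exact dd_U_ne k h

theorem single_apply' (l j : Fin (n + 1)) (D : Derivation k (OO k n) (OO k n)) (c : OO k n) :
    (Pi.single l D : Fin (n + 1) → Derivation k (OO k n) (OO k n)) j c = if j = l then D c else 0 := by
  by_cases h : j = l
  · subst h; simp
  · rw [Pi.single_eq_of_ne h, if_neg h]; rfl

theorem aux {K : Type*} [Field K] (A B C D : Prop) [Decidable A] [Decidable B] [Decidable C]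
    [Decidable D] : (((if A then if B then (1 : K) else 0 else 0) -
      (if C then if D then 1 else 0 else 0)) + ((if D then if C then 1 else 0 else 0) -
      (if B then if A then 1 else 0 else 0))) = 0 := by
  by_cases A <;> by_cases B <;> by_cases C <;> by_cases D <;> simp [*]

theorem sym_symb (t : ℕ) (l : Fin (n + 1)) (τ : II n) : Sym t (symb (k := k) t l τ) := by
  intro i hi j' l'
  unfold symb
  split_ifs with h
  · rw [single_apply', single_apply', dd_uu τ i _ (by omega), dd_uu τ i _ (by omega)]
    simp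
  · simp only [Pi.sub_apply, Derivation.sub_apply]
    rw [single_apply', single_apply', single_apply', single_apply', dd_U_eq, dd_U_eq, dd_U_eq, dd_U_eq]
    obtain ⟨a, b⟩ := τ
    simp only [Prod.mk.injEq]
    by_cases ha : a = i
    · subst ha
      simp only [true_and]
      have e1 : (b = l') ↔ (l' = b) := eq_comm
      have e2 : (l = l') ↔ (l' = l) := eq_comm
      have e3 : (b = j') ↔ (j' = b) := eq_comm
      have e4 : (l = j') ↔ (j' = l) := eq_comm
      simp only [e1, e2, e3, e4]
      exact aux _ _ _ _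
    · simp [ha]

/-- The operators of the chart. -/
noncomputable def opsOf (p : ℕ) (l : Fin (n + 1)) : Ops (chartOf L p l) where
  E τ := opP (L.op (symb t l τ) (sym_symb t l τ)) p
  E_mon τ hτ α hα e := by
    change opP (L.op (symb t l τ) (sym_symb t l τ)) p (mon k α • ιP L p e) = _
    rw [opP_smul, opP_ι, smul_zero, zero_add]
    have hx : ∀ j, X S p j (ιP L p e) = ιP L p (X S₀ p j e) := fun j =>
      ((chartOf L p l).ι_x j e).symm
    have key : ∀ j, symb (k := k) t l τ j (mon k α) =
        if j = l then (α τ : OO k n) * mon k (α - Finsupp.single τ 1) else 0 := by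
      intro j
      unfold symb
      split_ifs with h h2 h2
      · rw [single_apply', if_pos h2, dd_mon]
      · rw [single_apply', if_neg h2]
      · simp only [Pi.sub_apply, Derivation.sub_apply]
        rw [single_apply', single_apply', if_pos h2, dd_mon, if_neg, sub_zero]
        intro h3
        exact hτ ⟨not_le.1 h, h3.symm.trans h2⟩
      · simp only [Pi.sub_apply, Derivation.sub_apply]
        rw [single_apply', single_apply', if_neg h2, zero_sub, dd_mon]
        have : α (τ.1, l) = 0 := by
          by_contra hne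
          exact hα (τ.1, l) (Finsupp.mem_support_iff.2 hne) ⟨not_le.1 h, rfl⟩
        rw [this, Nat.cast_zero, zero_mul]
        simp
    rw [Finset.sum_eq_single l]
    · rw [key, if_pos rfl, mul_smul, hx]
      rfl
    · intro j _ hj
      rw [key, if_neg hj, zero_smul]
    · intro h; exact absurd (Finset.mem_univ l) h

section Lam

variable (S) (t)

/-- The generic form as an endomorphism of the product. -/
noncomputable def lam (p : ℕ) : Pr S p →ₗ[OO k n] Pr S p := ∑ j, U k (t, j) • X S p j

theorem lam_eq (p : ℕ) (v : Pr S p) : lam S t p v = ∑ j, U k (t, j) • X S p j v := by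
  rw [lam, LinearMap.sum_apply]
  rfl

theorem lam_apply (p : ℕ) (v : Pr S p) (s : ℤ) : lam S t p v s =
    (S.lin (uu k n t) (s - 1) s (by ring)).f p (v (s - 1)) := by
  rw [lin_apply, lam_eq, Finset.sum_apply]
  rfl

theorem lam_X (p : ℕ) (i : Fin (n + 1)) (v : Pr S p) :
    lam S t p (X S p i v) = X S p i (lam S t p v) := by
  rw [lam_eq, lam_eq, map_sum]
  refine Finset.sum_congr rfl fun j _ => ?_
  rw [map_smul, X_comm]

/-- The quadratic correction term. -/
noncomputable def qq (δ : Fin (n + 1) → Derivation k (OO k n) (OO k n)) (p : ℕ) (v : Pr S p) :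
    Pr S p := ∑ l, ∑ j, δ j (U k (t, l)) • X S p j (X S p l v)

theorem lam_qq (δ : Fin (n + 1) → Derivation k (OO k n) (OO k n)) (p : ℕ) (v : Pr S p) :
    lam S t p (qq S t δ p v) = qq S t δ p (lam S t p v) := by
  rw [qq, qq, map_sum]
  refine Finset.sum_congr rfl fun l _ => ?_
  rw [map_sum]
  refine Finset.sum_congr rfl fun j _ => ?_
  rw [map_smul, lam_X, lam_X]

theorem qq_zero (δ : Fin (n + 1) → Derivation k (OO k n) (OO k n)) (p : ℕ) :
    qq S t δ p (0 : Pr S p) = 0 := by
  rw [qq]
  simp

variable {S} {t}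

theorem opP_lam {δ : Fin (n + 1) → Derivation k (OO k n) (OO k n)} (O : Op S δ) (p : ℕ)
    (v : Pr S p) : opP O p (lam S t p v) = lam S t p (opP O p v) + qq S t δ p v := by
  rw [lam_eq, lam_eq, qq, map_sum, ← Finset.sum_add_distrib]
  refine Finset.sum_congr rfl fun l _ => ?_
  rw [opP_smul, opP_X]

theorem opP_lam_pow {δ : Fin (n + 1) → Derivation k (OO k n) (OO k n)} (O : Op S δ) (p : ℕ)
    (a : ℕ) (v : Pr S p) : opP O p ((lam S t p ^ (a + 1)) v) =
      (lam S t p ^ (a + 1)) (opP O p v) + ((a : OO k n) + 1) • qq S t δ p ((lam S t p ^ a) v) := by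
  induction a with
  | zero => simp [opP_lam]
  | succ a ih =>
    rw [pow_succ', Module.End.mul_apply, opP_lam, ih, map_add, map_smul, lam_qq, add_assoc]
    rw [← Module.End.mul_apply, ← pow_succ', ← Module.End.mul_apply (lam S t p) (lam S t p ^ a),
      ← pow_succ']
    congr 1
    rw [Nat.cast_succ, add_smul ((a : OO k n) + 1) (1 : OO k n), one_smul]

theorem qq_single (p : ℕ) (l : Fin (n + 1)) (v : Pr S p) :
    qq S t (Pi.single l (dd k (t, l))) p v = X S p l (X S p l v) := by
  rw [qq, Finset.sum_eq_single l, Finset.sum_eq_single l]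
  · rw [single_apply', if_pos rfl, dd_U_self, one_smul]
  · intro j _ hj
    rw [single_apply', if_neg hj, zero_smul]
  · intro h; exact absurd (Finset.mem_univ l) h
  · intro l' _ hl'
    refine Finset.sum_eq_zero fun j _ => ?_
    rw [single_apply', dd_U_ne k (fun h => hl' (Prod.mk.inj h).2.symm)]
    simp
  · intro h; exact absurd (Finset.mem_univ l) h

theorem sym_single (l : Fin (n + 1)) : Sym t (Pi.single l (dd k (t, l)) :
    Fin (n + 1) → Derivation k (OO k n) (OO k n)) := by
  intro i hi j' l'
  rw [single_apply', single_apply', dd_uu (t, l) i _ (Nat.ne_of_gt hi),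
    dd_uu (t, l) i _ (Nat.ne_of_gt hi)]
  simp

end Lam

theorem ι_torsion [CharZero k] (p : ℕ) (l : Fin (n + 1)) (a : ℕ) (e : Pr S₀ p)
    (h : (lam S t p ^ a) (ιP L p e) = 0) : (X S p l ^ (2 * a)) (ιP L p e) = 0 := by
  have : CharZero (OO k n) := charZero_of_injective_algebraMap (algebraMap k (OO k n)).injective
  induction a generalizing e with
  | zero => simpa using h
  | succ a ih =>
    have h1 := opP_lam_pow (t := t) (L.op _ (sym_single (t := t) l)) p a (ιP L p e)
    rw [h, opP_ι, map_zero, map_zero, zero_add] at h1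
    have h2 : ((a : OO k n) + 1) ≠ 0 := by exact_mod_cast Nat.succ_ne_zero a
    have h3 := (smul_eq_zero_iff_right h2).1 h1.symm
    rw [qq_single] at h3
    have hc : ∀ (b : ℕ) (v : Pr S p), (lam S t p ^ b) (X S p l v) = X S p l ((lam S t p ^ b) v) := by
      intro b
      induction b with
      | zero => intro v; simp
      | succ b ihb => intro v; rw [pow_succ', Module.End.mul_apply, ihb, Module.End.mul_apply, lam_X]
    rw [← hc, ← hc] at h3
    have hx : ∀ e, X S p l (ιP L p e) = ιP L p (X S₀ p l e) := fun e =>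
      ((chartOf L p l).ι_x l e).symm
    rw [hx, hx] at h3
    have h4 := ih _ h3
    rw [← hx, ← hx] at h4
    have e1 : 2 * (a + 1) = 2 * a + 1 + 1 := by ring
    rw [e1, pow_succ, pow_succ, Module.End.mul_apply, Module.End.mul_apply]
    exact h4

/-- The vectors killed by a power of the generic form. -/
def tors (p : ℕ) (S : Sys (n + 1) (OO k n)) (t : ℕ) : Submodule (OO k n) (Pr S p) where
  carrier := {v | ∃ a, (lam S t p ^ a) v = 0}
  zero_mem' := ⟨0, by simp⟩
  add_mem' := by
    rintro v w ⟨a, ha⟩ ⟨b, hb⟩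
    have h1 : (lam S t p ^ (a + b)) v = 0 := by
      rw [add_comm a b, pow_add, Module.End.mul_apply, ha, map_zero]
    have h2 : (lam S t p ^ (a + b)) w = 0 := by
      rw [pow_add, Module.End.mul_apply, hb, map_zero]
    exact ⟨a + b, by rw [map_add, h1, h2, add_zero]⟩
  smul_mem' := by
    rintro c v ⟨a, ha⟩
    exact ⟨a, by rw [map_smul, ha, smul_zero]⟩

theorem single_mem_span (p : ℕ) (r : ℤ) (v : (S.C r).X p) :
    (Pi.single r v : Pr S p) ∈ Submodule.span (OO k n) (Set.range (ιP L p)) := by
  have h1 : v ∈ Submodule.span (OO k n) (Set.range (L.ι p r)) := by rw [L.span]; trivial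
  have h2 := Submodule.mem_map_of_mem (f := LinearMap.single (OO k n) (fun r => (S.C r).X p) r) h1
  rw [Submodule.map_span, ← Set.range_comp] at h2
  refine Submodule.span_mono ?_ h2
  rintro _ ⟨e, rfl⟩
  refine ⟨Pi.single r e, ?_⟩
  funext s
  change L.ι p s ((Pi.single r e : Pr S₀ p) s) = (Pi.single r (L.ι p r e) : Pr S p) s
  by_cases h : s = r
  · subst h; simp
  · rw [Pi.single_eq_of_ne h, Pi.single_eq_of_ne h, map_zero]

include L in
/-- The generic linear form is injective. -/
theorem lin_injective [CharZero k] (p : ℕ) (r s : ℤ) (h : r + 1 = s) :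
    Function.Injective ((S.lin (uu k n t) r s h).f p) := by
  rw [injective_iff_map_eq_zero]
  intro v hv
  have hw : (Pi.single r v : Pr S p) ∈ tors p S t := by
    refine ⟨1, ?_⟩
    rw [pow_one]
    funext s'
    rw [lam_apply]
    by_cases h' : s' - 1 = r
    · subst h'
      obtain rfl : s' = s := by omega
      rw [Pi.single_eq_same]
      exact hv
    · rw [Pi.single_eq_of_ne h', map_zero]
      rfl
  have key : (Pi.single r v : Pr S p) = 0 := by
    refine X_pow_zero S p _ fun l => ?_
    have c1 : ∀ w ∈ tors p S t, (chartOf L p l).x (chartOf L p l).l w ∈ tors p S t := by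
      rintro w ⟨a, ha⟩
      refine ⟨a, ?_⟩
      have hc : ∀ (b : ℕ) (v : Pr S p), (lam S t p ^ b) (X S p l v) = X S p l ((lam S t p ^ b) v) := by
        intro b
        induction b with
        | zero => intro v; simp
        | succ b ihb =>
          intro v; rw [pow_succ', Module.End.mul_apply, ihb, Module.End.mul_apply, lam_X]
      change (lam S t p ^ a) (X S p l w) = 0
      rw [hc, ha, map_zero]
    have c2 : ∀ τ, ¬ (chartOf L p l).Bad τ → ∀ w ∈ tors p S t,
        (opsOf L p l).E τ w ∈ tors p S t := by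
      rintro τ _ w ⟨a, ha⟩
      refine ⟨a + 1, ?_⟩
      have h1 := opP_lam_pow (t := t) (L.op _ (sym_symb t l τ)) p a w
      have h2 : (lam S t p ^ (a + 1)) w = 0 := by
        rw [pow_succ', Module.End.mul_apply, ha, map_zero]
      rw [h2, ha, map_zero, qq_zero, smul_zero, add_zero] at h1
      exact h1.symm
    obtain ⟨N, hN⟩ := chart (opsOf L p l) (tors p S t) c1 c2 hw (single_mem_span L p r v)
    refine ⟨N, ?_⟩
    have h0 : (ιP L p) '' {e | ιP L p e ∈ tors p S t} ⊆ {0} := by
      rintro _ ⟨e, ⟨a, ha⟩, rfl⟩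
      rw [Set.mem_singleton_iff]
      exact X_pow_zero S p _ fun l => ⟨_, ι_torsion L p l a e ha⟩
    have h1 := Submodule.span_mono h0 hN
    rw [Submodule.span_singleton_eq_bot.2 rfl] at h1
    exact h1
  have := congrFun key r
  rwa [Pi.single_eq_same] at this

end K52.Inj
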