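import Mathlib.LinearAlgebra.FiniteDimensional.Lemmas
import Mathlib.Tactic.Ring
import Mathlib.Tactic.Linarith

/-!
# Linear algebra of two degree one maps

`PD K`: finite dimensional spaces `A r`, `r ∈ ℤ`, with commuting maps `Y0`, `Y1` of degree one, `Y1` injective and
`Y0` injective modulo `Y1`. If the second difference of `dim A` vanishes at `q` then `A (q+1)` is generated
by `A q`, and the subspaces `U r` generated by `A q` have linearly growing dimension.
-/

set_option autoImplicit false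

universe u

namespace K52.Rank

/-- Graded spaces with two maps of degree one. -/
structure PD (K : Type u) [Field K] where
  A : ℤ → Type u
  [grp : ∀ r, AddCommGroup (A r)]
  [mod : ∀ r, Module K (A r)]
  fin : ∀ r, Module.Finite K (A r)
  Y0 : ∀ r s : ℤ, r + 1 = s → A r →ₗ[K] A s
  Y1 : ∀ r s : ℤ, r + 1 = s → A r →ₗ[K] A s
  comm : ∀ (r s t : ℤ) (h : r + 1 = s) (h' : s + 1 = t) (v : A r),
    Y0 s t h' (Y1 r s h v) = Y1 s t h' (Y0 r s h v)
  inj : ∀ (r s : ℤ) (h : r + 1 = s), Function.Injective (Y1 r s h)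
  quot : ∀ (r s t : ℤ) (h : r + 1 = s) (h' : s + 1 = t) (a b : A s), Y0 s t h' a = Y1 s t h' b →
    ∃ a' : A r, Y1 r s h a' = a

attribute [instance] PD.grp PD.mod

namespace PD

variable {K : Type u} [Field K] (P : PD K)

/-- The dimension. -/
noncomputable def δ (r : ℤ) : ℤ := Module.finrank K (P.A r)

/-- General counting: `U ⊆ A s`, `W ⊆ A r`, `a ∈ U` is in the image of `Y1` iff it is in the image of `W`. -/
theorem count (r s t : ℤ) (h : r + 1 = s) (h' : s + 1 = t) (U : Submodule K (P.A s))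
    (W : Submodule K (P.A r)) (hW : W.map (P.Y1 r s h) ≤ U)
    (hWU : W.map (P.Y0 r s h) ≤ U)
    (hC : ∀ a ∈ U, (∃ a', P.Y1 r s h a' = a) → ∃ a' ∈ W, P.Y1 r s h a' = a) :
    (Module.finrank K ↥(U.map (P.Y0 s t h') ⊔ U.map (P.Y1 s t h')) : ℤ) =
      2 * Module.finrank K U - Module.finrank K W := by
  have hfs := P.fin s
  have hft := P.fin t
  have hfr := P.fin r
  let R := U.map (P.Y1 s t h')
  let θ : U →ₗ[K] (P.A t ⧸ R) := R.mkQ ∘ₗ P.Y0 s t h' ∘ₗ U.subtype
  have hker : (LinearMap.ker θ).map U.subtype = W.map (P.Y1 r s h) := by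
    apply le_antisymm
    · rintro _ ⟨a, ha, rfl⟩
      have h1 : P.Y0 s t h' a ∈ R := (Submodule.Quotient.mk_eq_zero R).1 ha
      obtain ⟨b, hb, hab⟩ := h1
      obtain ⟨a', ha'⟩ := P.quot r s t h h' a b hab.symm
      exact hC a a.2 ⟨a', ha'⟩
    · rintro _ ⟨a', ha', rfl⟩
      refine ⟨⟨P.Y1 r s h a', hW ⟨a', ha', rfl⟩⟩, ?_, rfl⟩
      refine (Submodule.Quotient.mk_eq_zero R).2 ⟨P.Y0 r s h a', hWU ⟨a', ha', rfl⟩, ?_⟩
      exact (P.comm r s t h h' a').symm
  have e1 : Module.finrank K (LinearMap.ker θ) = Module.finrank K W := by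
    have h1 := (Submodule.equivMapOfInjective U.subtype U.injective_subtype
      (LinearMap.ker θ)).finrank_eq
    rw [hker] at h1
    rw [h1, ← (Submodule.equivMapOfInjective _ (P.inj r s h) W).finrank_eq]
  have e2 := LinearMap.finrank_range_add_finrank_ker θ
  have hsup : U.map (P.Y0 s t h') ⊔ R = (LinearMap.range θ).comap R.mkQ := by
    apply le_antisymm
    · refine sup_le ?_ ?_
      · rintro _ ⟨a, ha, rfl⟩
        exact ⟨⟨a, ha⟩, rfl⟩
      · intro v hv
        refine ⟨0, ?_⟩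
        rw [map_zero]
        exact ((Submodule.Quotient.mk_eq_zero R).2 hv).symm
    · rintro v ⟨a, ha⟩
      have h1 : v - P.Y0 s t h' a ∈ R := by
        rw [← Submodule.Quotient.mk_eq_zero, Submodule.Quotient.mk_sub, sub_eq_zero]
        exact ha.symm
      have h2 := Submodule.add_mem_sup (Submodule.mem_map_of_mem (f := P.Y0 s t h') a.2) h1
      rwa [add_sub_cancel] at h2
  have e3 : Module.finrank K ↥((LinearMap.range θ).comap R.mkQ) =
      Module.finrank K (LinearMap.range θ) + Module.finrank K R := by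
    have h1 := LinearMap.finrank_range_add_finrank_ker
      (R.mkQ.domRestrict ((LinearMap.range θ).comap R.mkQ))
    have h2 : LinearMap.range (R.mkQ.domRestrict ((LinearMap.range θ).comap R.mkQ)) =
        LinearMap.range θ := by
      rw [LinearMap.range_domRestrict, Submodule.map_comap_eq_of_surjective R.mkQ_surjective]
    have h3 : (LinearMap.ker (R.mkQ.domRestrict ((LinearMap.range θ).comap R.mkQ))).map
        (Submodule.subtype _) = R := by
      rw [LinearMap.ker_domRestrict, Submodule.map_comap_subtype,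
        Submodule.ker_mkQ, inf_eq_right]
      intro v hv
      refine ⟨0, ?_⟩
      rw [map_zero]
      exact ((Submodule.Quotient.mk_eq_zero R).2 hv).symm
    rw [h2] at h1
    have h4 := (Submodule.equivMapOfInjective _ (Submodule.injective_subtype _)
      (LinearMap.ker (R.mkQ.domRestrict ((LinearMap.range θ).comap R.mkQ)))).finrank_eq
    rw [h3] at h4
    omega
  have e4 : Module.finrank K R = Module.finrank K U :=
    (Submodule.equivMapOfInjective _ (P.inj s t h') U).finrank_eq.symm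
  change (Module.finrank K ↥(U.map (P.Y0 s t h') ⊔ R) : ℤ) = _
  rw [hsup, e3, e4]
  omega

/-- Generation from vanishing of the second difference. -/
theorem gen (q t : ℤ) (h' : q + 1 = t) (hq : P.δ t - P.δ q = P.δ q - P.δ (q - 1)) :
    (⊤ : Submodule K (P.A q)).map (P.Y0 q t h') ⊔ (⊤ : Submodule K (P.A q)).map (P.Y1 q t h') = ⊤ := by
  have hft := P.fin t
  have h1 := P.count (q - 1) q t (by ring) h' ⊤ ⊤ le_top le_top
    (fun a _ ⟨a', ha'⟩ => ⟨a', trivial, ha'⟩)
  rw [finrank_top, finrank_top] at h1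
  apply Submodule.eq_top_of_finrank_eq
  simp only [δ] at hq
  omega

/-- The first difference is nondecreasing. -/
theorem mono_diff (q : ℤ) : P.δ q - P.δ (q - 1) ≤ P.δ (q + 1) - P.δ q := by
  have hft := P.fin (q + 1)
  have h1 := P.count (q - 1) q (q + 1) (by ring) rfl ⊤ ⊤ le_top le_top
    (fun a _ ⟨a', ha'⟩ => ⟨a', trivial, ha'⟩)
  rw [finrank_top, finrank_top] at h1
  have h2 := Submodule.finrank_le ((⊤ : Submodule K (P.A q)).map (P.Y0 q (q + 1) rfl) ⊔
    (⊤ : Submodule K (P.A q)).map (P.Y1 q (q + 1) rfl))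
  simp only [δ]
  omega

/-- The dimensions are nondecreasing. -/
theorem mono (q : ℤ) : P.δ (q - 1) ≤ P.δ q := by
  have hft := P.fin q
  have h1 := LinearMap.finrank_le_finrank_of_injective (P.inj (q - 1) q (by ring))
  simp only [δ]
  omega

/-- The subspaces generated by degree `q`. -/
noncomputable def Un : ℕ → ∀ r : ℤ, Submodule K (P.A r)
  | 0, _ => ⊤
  | m + 1, r => (Un m (r - 1)).map (P.Y0 (r - 1) r (by ring)) ⊔
      (Un m (r - 1)).map (P.Y1 (r - 1) r (by ring))

theorem Un_succ (m : ℕ) (r s : ℤ) (h : r + 1 = s) : P.Un (m + 1) s =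
    (P.Un m r).map (P.Y0 r s h) ⊔ (P.Un m r).map (P.Y1 r s h) := by
  obtain rfl : r = s - 1 := by omega
  rfl

theorem Y0_mem {m : ℕ} {r s : ℤ} (h : r + 1 = s) {v : P.A r} (hv : v ∈ P.Un m r) :
    P.Y0 r s h v ∈ P.Un (m + 1) s := by
  rw [P.Un_succ m r s h]
  exact Submodule.mem_sup_left ⟨v, hv, rfl⟩

theorem Y1_mem {m : ℕ} {r s : ℤ} (h : r + 1 = s) {v : P.A r} (hv : v ∈ P.Un m r) :
    P.Y1 r s h v ∈ P.Un (m + 1) s := by
  rw [P.Un_succ m r s h]
  exact Submodule.mem_sup_right ⟨v, hv, rfl⟩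

/-- Divisibility by `Y1` inside the generated subspaces. -/
theorem div (m : ℕ) (r s t : ℤ) (h : r + 1 = s) (h' : s + 1 = t) (a : P.A t)
    (ha : a ∈ P.Un (m + 1) t) (hd : ∃ a', P.Y1 s t h' a' = a) :
    ∃ a' ∈ P.Un m s, P.Y1 s t h' a' = a := by
  induction m generalizing r s t with
  | zero =>
    obtain ⟨a', ha'⟩ := hd
    exact ⟨a', trivial, ha'⟩
  | succ m ih =>
    rw [P.Un_succ (m + 1) s t h'] at ha
    obtain ⟨_, ⟨u, hu, rfl⟩, _, ⟨w, hw, rfl⟩, rfl⟩ := Submodule.mem_sup.1 ha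
    obtain ⟨a', ha'⟩ := hd
    obtain ⟨u', hu'⟩ := P.quot r s t h h' u (a' - w) (by rw [map_sub, ha', add_sub_cancel_right])
    obtain ⟨u'', hu'', e⟩ := ih (r - 1) r s (by ring) h u hu ⟨u', hu'⟩
    refine ⟨P.Y0 r s h u'' + w, Submodule.add_mem _ (P.Y0_mem h hu'') hw, ?_⟩
    rw [map_add, ← P.comm r s t h h', e]

/-- The dimensions of the generated subspaces. -/
theorem dim (q : ℤ) (m : ℕ) (r : ℤ) (h : q + m = r) :
    (Module.finrank K (P.Un m r) : ℤ) = P.δ q + m * (P.δ q - P.δ (q - 1)) := by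
  -- two consecutive dimensions
  have key : ∀ m : ℕ, (Module.finrank K (P.Un m (q + m)) : ℤ) = P.δ q + m * (P.δ q - P.δ (q - 1)) ∧
      (Module.finrank K (P.Un (m + 1) (q + m + 1)) : ℤ) =
        P.δ q + (m + 1 : ℕ) * (P.δ q - P.δ (q - 1)) := by
    intro m
    induction m with
    | zero =>
      have h0 : (Module.finrank K (P.Un 0 (q + (0 : ℕ))) : ℤ) = P.δ q := by
        have e : (q + ((0 : ℕ) : ℤ)) = q := by simp
        rw [e]
        change (Module.finrank K (⊤ : Submodule K (P.A q)) : ℤ) = _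
        rw [finrank_top]
        rfl
      refine ⟨by rw [h0]; simp, ?_⟩
      have h1 := P.count (q - 1) q (q + 1) (by ring) rfl ⊤ ⊤ le_top le_top
        (fun a _ ⟨a', ha'⟩ => ⟨a', trivial, ha'⟩)
      rw [finrank_top, finrank_top] at h1
      have e : q + ((0 : ℕ) : ℤ) + 1 = q + 1 := by simp
      rw [e, P.Un_succ 0 q (q + 1) rfl]
      refine h1.trans ?_
      simp only [δ]
      push_cast
      ring
    | succ m ih =>
      refine ⟨?_, ?_⟩
      · have e : q + ((m + 1 : ℕ) : ℤ) = q + m + 1 := by push_cast; ring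
        rw [e]
        exact ih.2
      · have e : q + ((m + 1 : ℕ) : ℤ) + 1 = q + m + 1 + 1 := by push_cast; ring
        rw [e, P.Un_succ (m + 1) (q + m + 1) _ rfl]
        have h1 := P.count (q + m) (q + m + 1) (q + m + 1 + 1) rfl rfl (P.Un (m + 1) (q + m + 1))
          (P.Un m (q + m)) ?_ ?_ ?_
        · refine h1.trans ?_
          rw [ih.1, ih.2]
          push_cast
          ring
        · rintro _ ⟨v, hv, rfl⟩; exact P.Y1_mem rfl hv
        · rintro _ ⟨v, hv, rfl⟩; exact P.Y0_mem rfl hv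
        · intro a ha hd
          exact P.div m (q + m - 1) (q + m) (q + m + 1) (by ring) rfl a ha hd
  subst h
  exact (key m).1

/-- Stability of the generated subspaces under a map of degree one. -/
theorem stable (q : ℤ) (hq : P.δ (q + 1) - P.δ q = P.δ q - P.δ (q - 1))
    (F : ∀ r s : ℤ, r + 1 = s → P.A r → P.A s)
    (hadd : ∀ r s h a b, F r s h (a + b) = F r s h a + F r s h b)
    (h0 : ∀ (m : ℕ) (r s u : ℤ) (h : r + 1 = s) (h' : s + 1 = u), q + m = r → ∀ a ∈ P.Un m r,
      ∃ g ∈ P.Un (m + 2) u, F s u h' (P.Y0 r s h a) = P.Y0 s u h' (F r s h a) + g)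
    (h1 : ∀ (m : ℕ) (r s u : ℤ) (h : r + 1 = s) (h' : s + 1 = u), q + m = r → ∀ a ∈ P.Un m r,
      ∃ g ∈ P.Un (m + 2) u, F s u h' (P.Y1 r s h a) = P.Y1 s u h' (F r s h a) + g)
    (m : ℕ) (r s : ℤ) (hm : q + m = r) (h : r + 1 = s) (v : P.A r) (hv : v ∈ P.Un m r) :
    F r s h v ∈ P.Un (m + 1) s := by
  induction m generalizing r s with
  | zero =>
    have hr : q = r := by simpa using hm
    subst hr
    subst h
    have h2 := P.Un_succ 0 q (q + 1) rfl
    change P.Un (0 + 1) (q + 1) = (⊤ : Submodule K (P.A q)).map _ ⊔ (⊤ : Submodule K (P.A q)).map _ at h2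
    rw [P.gen q (q + 1) rfl hq] at h2
    rw [h2]
    trivial
  | succ m ih =>
    rw [P.Un_succ m (r - 1) r (by ring)] at hv
    obtain ⟨_, ⟨a, ha, rfl⟩, _, ⟨b, hb, rfl⟩, rfl⟩ := Submodule.mem_sup.1 hv
    have hm' : q + m = r - 1 := by rw [← hm]; push_cast; ring
    obtain ⟨g, hg, e⟩ := h0 m (r - 1) r s (by ring) h hm' a ha
    obtain ⟨g', hg', e'⟩ := h1 m (r - 1) r s (by ring) h hm' b hb
    rw [hadd, e, e']
    exact Submodule.add_mem _ (Submodule.add_mem _ (P.Y0_mem h (ih (r - 1) r hm' (by ring) a ha)) hg)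
      (Submodule.add_mem _ (P.Y1_mem h (ih (r - 1) r hm' (by ring) b hb)) hg')

end PD

end K52.Rank
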