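import Groth.Agent.Coherent.K52.Desc
import Groth.Agent.Coherent.K52.Rank

/-!
# The stable family generated by the sections in one degree
-/

set_option autoImplicit false

universe u

open CategoryTheory CategoryTheory.Limits

namespace K52.Key

open Der Weyl Tower Inj HZ TowerH Desc Rank Groth.Agent.Fga.MumSys Groth.Agent.Fga.MumFinal
  Groth.Agent.Fga.MumSES

variable {k : Type u} [Field k] [CharZero k] {n : ℕ} (S₀ : Sys (n + 1) k) (t : ℕ)

/-- The cycles of a level with the multiplications by the two next generic forms. -/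
noncomputable abbrev pd (hf : ∀ r, Module.Finite (OO k n) (((T S₀ t).C r).homology 0)) :
    PD (OO k n) where
  A r := Z ((T S₀ t).C r)
  fin r := (finite_Z_iff _).2 (hf r)
  Y0 r s h := zmap ((T S₀ t).lin (uu k n (t + 1)) r s h)
  Y1 r s h := zmap ((T S₀ t).lin (uu k n t) r s h)
  comm r s u h h' v := by
    apply Subtype.ext
    change ((T S₀ t).lin (uu k n (t + 1)) s u h').f 0 (((T S₀ t).lin (uu k n t) r s h).f 0 v) =
      ((T S₀ t).lin (uu k n t) s u h').f 0 (((T S₀ t).lin (uu k n (t + 1)) r s h).f 0 v)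
    have e0 : ∀ (c d : Fin (n + 1) → OO k n), ((T S₀ t).lin c s u h').f 0
        (((T S₀ t).lin d r s h).f 0 (v : ((T S₀ t).C r).X 0)) = ∑ l, ∑ j, (c j * d l) •
          ((T S₀ t).x j s u h').f 0 (((T S₀ t).x l r s h).f 0 v) := by
      intro c d
      rw [lin_apply _ d, map_sum]
      refine Finset.sum_congr rfl fun l _ => ?_
      rw [map_smul, lin_apply, Finset.smul_sum]
      exact Finset.sum_congr rfl fun j _ => by rw [smul_smul, mul_comm]
    rw [e0, e0, Finset.sum_comm]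
    refine Finset.sum_congr rfl fun l _ => Finset.sum_congr rfl fun j _ => ?_
    rw [xx_comm, mul_comm]
  inj r s h := zmap_injective _ (lin_injective (lev S₀ t) 0 r s h)
  quot r s u h h' a b hab := by
    have h1 : ((T S₀ t).lin (uu k n (t + 1)) s u h').f 0 (a : ((T S₀ t).C s).X 0) =
        ((T S₀ t).lin (uu k n t) s u h').f 0 (b : ((T S₀ t).C s).X 0) := congrArg Subtype.val hab
    have h2 := congrArg (pr (T S₀ t) (uu k n t) 0 u) h1
    have h3 : pr (T S₀ t) (uu k n t) 0 u (((T S₀ t).lin (uu k n t) s u h').f 0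
        (b : ((T S₀ t).C s).X 0)) = 0 := (pr_exact _ _ 0 s u h').apply_apply_eq_zero _
    have h4 : pr (T S₀ t) (uu k n t) 0 u (((T S₀ t).lin (uu k n (t + 1)) s u h').f 0
        (a : ((T S₀ t).C s).X 0)) =
        ((T S₀ (t + 1)).lin (uu k n (t + 1)) s u h').f 0 (pr (T S₀ t) (uu k n t) 0 s a) :=
      (congrArg (fun f => f.f 0 (a : ((T S₀ t).C s).X 0))
        (quot'_lin (T S₀ t) (uu k n t) (uu k n (t + 1)) s u h')).symm
    rw [h3, h4] at h2
    have h5 : pr (T S₀ t) (uu k n t) 0 s a = 0 :=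
      lin_injective (lev S₀ (t + 1)) 0 s u h' (h2.trans (map_zero _).symm)
    obtain ⟨w, hw, e⟩ := exists_cycle (ses S₀ t r s h) a a.2 h5
    exact ⟨⟨w, hw⟩, Subtype.ext e⟩

variable {S₀ t}

/-- The operator on cycles. -/
noncomputable def opZ {S : Sys (n + 1) (OO k n)} {δ : Fin (n + 1) → Derivation k (OO k n) (OO k n)}
    (O : Op S δ) (r s : ℤ) (h : r + 1 = s) (v : Z (S.C r)) : Z (S.C s) :=
  ⟨O.E 0 r s h v, by
    rw [mem_Z, ← O.d, (mem_Z _ _).1 v.2, map_zero]⟩

theorem opZ_add {S : Sys (n + 1) (OO k n)} {δ : Fin (n + 1) → Derivation k (OO k n) (OO k n)}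
    (O : Op S δ) (r s : ℤ) (h : r + 1 = s) (v w : Z (S.C r)) :
    opZ O r s h (v + w) = opZ O r s h v + opZ O r s h w := Subtype.ext (map_add (O.E 0 r s h) _ _)

theorem opZ_lin {S : Sys (n + 1) (OO k n)} {δ : Fin (n + 1) → Derivation k (OO k n) (OO k n)}
    (O : Op S δ) (a : Fin (n + 1) → OO k n) (r s u : ℤ) (h : r + 1 = s) (h' : s + 1 = u)
    (v : Z (S.C r)) : opZ O s u h' (zmap (S.lin a r s h) v) =
      zmap (S.lin a s u h') (opZ O r s h v) +
        ∑ l, ∑ j, δ j (a l) • zmap (S.x j s u h') (zmap (S.x l r s h) v) := by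
  apply Subtype.ext
  rw [Submodule.coe_add, Submodule.coe_sum]
  refine (O.lin a 0 r s u h h' v).trans ?_
  congr 1
  refine Finset.sum_congr rfl fun l _ => ?_
  rw [Submodule.coe_sum]
  rfl

section Gen

variable (hf : ∀ r, Module.Finite (OO k n) (((T S₀ t).C r).homology 0)) (q : ℤ)
  (hq : (pd S₀ t hf).δ (q + 1) - (pd S₀ t hf).δ q = (pd S₀ t hf).δ q - (pd S₀ t hf).δ (q - 1))

include hq

theorem x_mem_Un (j : Fin (n + 1)) (m : ℕ) (r s : ℤ) (hm : q + m = r) (h : r + 1 = s)
    (v : (pd S₀ t hf).A r) (hv : v ∈ (pd S₀ t hf).Un m r) :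
    zmap ((T S₀ t).x j r s h) v ∈ (pd S₀ t hf).Un (m + 1) s := by
  have e : ∀ (c : Fin (n + 1) → OO k n) (r s u : ℤ) (h : r + 1 = s) (h' : s + 1 = u)
      (a : Z ((T S₀ t).C r)),
      zmap ((T S₀ t).x j s u h') (zmap ((T S₀ t).lin c r s h) a) =
      zmap ((T S₀ t).lin c s u h') (zmap ((T S₀ t).x j r s h) a) := fun c r s u h h' a =>
    Subtype.ext (congrArg (fun f => f.f 0 (a : ((T S₀ t).C r).X 0))
      ((T S₀ t).lin_comm c j r s u h h'))
  exact (pd S₀ t hf).stable q hq (fun r s h v => zmap ((T S₀ t).x j r s h) v)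
    (fun r s h a b => map_add (zmap ((T S₀ t).x j r s h)) a b)
    (fun m r s u h h' _ a _ => ⟨0, Submodule.zero_mem _, (e _ r s u h h' a).trans (add_zero _).symm⟩)
    (fun m r s u h h' _ a _ => ⟨0, Submodule.zero_mem _, (e _ r s u h h' a).trans (add_zero _).symm⟩)
    m r s hm h v hv

theorem op_mem_Un {δ : Fin (n + 1) → Derivation k (OO k n) (OO k n)} (O : Op (T S₀ t) δ)
    (m : ℕ) (r s : ℤ) (hm : q + m = r) (h : r + 1 = s)
    (v : (pd S₀ t hf).A r) (hv : v ∈ (pd S₀ t hf).Un m r) :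
    opZ O r s h v ∈ (pd S₀ t hf).Un (m + 1) s := by
  have hx : ∀ (c : Fin (n + 1) → OO k n) (m : ℕ) (r s u : ℤ) (h : r + 1 = s) (h' : s + 1 = u)
      (_ : q + m = r) (a : (pd S₀ t hf).A r), a ∈ (pd S₀ t hf).Un m r →
      (∑ l, ∑ j, δ j (c l) • (zmap ((T S₀ t).x j s u h') (zmap ((T S₀ t).x l r s h) a) :
        (pd S₀ t hf).A u)) ∈ (pd S₀ t hf).Un (m + 2) u := by
    intro c m r s u h h' hm a ha
    refine Submodule.sum_mem _ fun l _ => Submodule.sum_mem _ fun j _ =>
      Submodule.smul_mem _ _ ?_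
    exact x_mem_Un hf q hq j (m + 1) s u (by rw [← h, ← hm]; push_cast; ring) h' _
      (x_mem_Un hf q hq l m r s hm h a ha)
  exact (pd S₀ t hf).stable q hq (fun r s h v => opZ O r s h v)
    (fun r s h a b => opZ_add O r s h a b)
    (fun m r s u h h' hm a ha => ⟨_, hx _ m r s u h h' hm a ha, opZ_lin O _ r s u h h' a⟩)
    (fun m r s u h h' hm a ha => ⟨_, hx _ m r s u h h' hm a ha, opZ_lin O _ r s u h h' a⟩)
    m r s hm h v hv

/-- The stable family generated by the cycles in degree `q`. -/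
noncomputable def stab : Stab (lev S₀ t) where
  V r := ((pd S₀ t hf).Un (r - q).toNat r).map (Z ((T S₀ t).C r)).subtype
  cyc r := by
    rintro _ ⟨v, _, rfl⟩
    exact v.2
  x j r s h := by
    rintro _ ⟨v, hv, rfl⟩
    rcases lt_or_ge r q with hr | hr
    · have : (s - q).toNat = 0 := by omega
      rw [this]
      exact ⟨zmap ((T S₀ t).x j r s h) v, trivial, rfl⟩
    · have e : (s - q).toNat = (r - q).toNat + 1 := by omega
      rw [e]
      exact ⟨zmap ((T S₀ t).x j r s h) v,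
        x_mem_Un hf q hq j _ r s (by omega) h v hv, rfl⟩
  op δ hδ r s h := by
    rintro _ ⟨v, hv, rfl⟩
    rcases lt_or_ge r q with hr | hr
    · have : (s - q).toNat = 0 := by omega
      rw [this]
      exact ⟨opZ ((lev S₀ t).op δ hδ) r s h v, trivial, rfl⟩
    · have e : (s - q).toNat = (r - q).toNat + 1 := by omega
      rw [e]
      exact ⟨opZ ((lev S₀ t).op δ hδ) r s h v,
        op_mem_Un hf q hq _ _ r s (by omega) h v hv, rfl⟩

theorem finrank_stab (r : ℤ) (hr : q ≤ r) :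
    (Module.finrank (OO k n) ((stab hf q hq).V r) : ℤ) =
      (pd S₀ t hf).δ q + (r - q) * ((pd S₀ t hf).δ q - (pd S₀ t hf).δ (q - 1)) := by
  have h1 : Module.finrank (OO k n) ((stab hf q hq).V r) =
      Module.finrank (OO k n) ((pd S₀ t hf).Un (r - q).toNat r) :=
    (Submodule.equivMapOfInjective (Z ((T S₀ t).C r)).subtype
      (Submodule.injective_subtype _) ((pd S₀ t hf).Un (r - q).toNat r)).finrank_eq.symm
  rw [h1, (pd S₀ t hf).dim q (r - q).toNat r (by omega)]
  have : (((r - q).toNat : ℕ) : ℤ) = r - q := by omega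
  rw [this]

end Gen

end K52.Key
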