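import Groth.Agent.Coherent.K52.SubGen2
import Groth.Agent.Coherent.K52.Key

/-!
# Subsheaves from the sections of generic linear sections

`hd F t m` is the dimension of `H^0` of the `t`-fold generic linear section of `F`, twisted by `m`.
`exists_sheaf`: if the second difference of `hd F t` vanishes at `q` there is a coherent subsheaf `G` of `F` with
`hd G t m = hd F t q + (m - q) (hd F t q - hd F t (q - 1))` for large `m`.
-/

set_option autoImplicit false

universe u

open CategoryTheory CategoryTheory.Limits AlgebraicGeometry Opposite TopologicalSpace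

namespace K52.KeySheaf

open HZ SecZ Tower TowerH Desc Key SubGen Groth.Agent Groth.Agent.Fga Groth.Agent.Fga.MumCech
  Groth.Agent.Fga.MumDict Groth.Agent.Fga.MumSES
  Groth.Agent.Fga.TwistGr Groth.Agent.Fga.MumSys Groth.Agent.Fga.MumCast Groth.Agent.Fga.MumFinal
  Groth.Agent.Fga.MumLES Groth.Agent.PerfB.TwistDer Groth.Agent.Fga.GrFam

attribute [local instance] modP

variable {k : Type u} [Field k] {n : ℕ}

section Abs

variable [CharZero k]

/-- The dimensions of `H^0` of the levels of the tower. -/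
noncomputable def hT (S₀ : Sys (n + 1) k) (t : ℕ) (m : ℤ) : ℤ :=
  (Module.finrank (OO k n) (((T S₀ t).C m).homology 0) : ℤ)

theorem hT_eq (S₀ : Sys (n + 1) k) (t : ℕ) (hf) (m : ℤ) : (pd S₀ t hf).δ m = hT S₀ t m := by
  rw [hT, ← finrank_Z]
  rfl

/-- The key statement for short exact sequences of systems. -/
theorem abs (E : SES (n + 1) k) (t : ℕ)
    (hf : ∀ r, Module.Finite (OO k n) (((T E.B t).C r).homology 0)) (q : ℤ)
    (hq : (pd E.B t hf).δ (q + 1) - (pd E.B t hf).δ q = (pd E.B t hf).δ q - (pd E.B t hf).δ (q - 1))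
    (hA : Serre E.A) (hB : Serre E.B)
    (hN : ∃ m₀ : ℤ, ∀ m : ℤ, m₀ ≤ m →
      (stab hf q hq).N m = (Z (E.A.C m)).map ((E.f.f m).f 0).hom) :
    ∃ m₁ : ℤ, ∀ m : ℤ, m₁ ≤ m →
      hT E.A t m = hT E.B t q + (m - q) * (hT E.B t q - hT E.B t (q - 1)) := by
  obtain ⟨m₀, hm₀⟩ := hN
  have h1 : ∃ m₀ : ℤ, ∀ m : ℤ, m₀ ≤ m → ∀ e ∈ (stab hf q hq).N m, (E.g.f m).f 0 e = 0 := by
    refine ⟨m₀, fun m hm e he => ?_⟩
    rw [hm₀ m hm] at he
    obtain ⟨g, _, rfl⟩ := he
    exact congrArg (fun f => f.f 0 g) (E.zero m)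
  have h2 : ∃ m₀ : ℤ, ∀ m : ℤ, m₀ ≤ m → ∀ e ∈ Z (E.A.C m), (E.f.f m).f 0 e ∈ (stab hf q hq).N m := by
    refine ⟨m₀, fun m hm e he => ?_⟩
    rw [hm₀ m hm]
    exact ⟨e, he, rfl⟩
  obtain ⟨m₁, hm₁⟩ := Desc.finrank_eq E t (stab hf q hq) hA hB h1 h2
  refine ⟨max m₁ q, fun m hm => ?_⟩
  have h3 := hm₁ m ((le_max_left _ _).trans hm)
  have h4 := finrank_stab hf q hq m ((le_max_right _ _).trans hm)
  rw [hT_eq, hT_eq] at h4
  rw [← h4, h3]
  rfl

end Abs

/-- The dimension of `H^0` of the `t`-fold generic linear section of `F(m)`. -/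
noncomputable def hd [CharZero k] (F : (PP k n).Modules) (t : ℕ) (m : ℤ) : ℤ := hT (Fsys k n F) t m

theorem finite_homology (F : (PP k n).Modules) (hF : Coh.IsCoh F) (i : ℕ) (r : ℤ) :
    Module.Finite k (((Fsys k n F).C r).homology i) :=
  finite_all _ _ _ (MumReg.serre_sys k n F hF)
    ⟨0, fun r _ => (finite_Z_iff _).1 (finite_Z F hF r)⟩ i r

theorem shortExact_of_mono {X : Scheme.{u}} {A B : X.Modules} (i : A ⟶ B) [Mono i] :
    (ShortComplex.mk i (cokernel.π i) (cokernel.condition i)).ShortExact :=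
  { exact := ShortComplex.exact_cokernel i
    mono_f := inferInstance
    epi_g := inferInstance }

/-- **The key statement.** -/
theorem exists_sheaf [CharZero k] (F : (PP k n).Modules) (hF : Coh.IsCoh F) (t : ℕ) (q : ℤ)
    (hq : hd F t (q + 1) - hd F t q = hd F t q - hd F t (q - 1)) :
    ∃ (G : (PP k n).Modules) (ι : G ⟶ F), Mono ι ∧ Coh.IsCoh G ∧ ∃ m₁ : ℤ, ∀ m : ℤ, m₁ ≤ m →
      hd G t m = hd F t q + (m - q) * (hd F t q - hd F t (q - 1)) := by
  have hf : ∀ r, Module.Finite (OO k n) (((T (Fsys k n F) t).C r).homology 0) := fun r =>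
    finite_T (Fsys k n F) (finite_homology F hF) t 0 r
  have hq' : (pd (Fsys k n F) t hf).δ (q + 1) - (pd (Fsys k n F) t hf).δ q =
      (pd (Fsys k n F) t hf).δ q - (pd (Fsys k n F) t hf).δ (q - 1) := by
    rw [hT_eq, hT_eq, hT_eq]
    exact hq
  obtain ⟨G, ι, hι, hG, hN⟩ := exists_sub F hF (stab hf q hq').N (fun r => fun e he => he.1)
    (stab hf q hq').x_mem_N
  refine ⟨G, ι, hι, hG, ?_⟩
  exact abs (sesSys (shortExact_of_mono ι) hG.1) t hf q hq' (MumReg.serre_sys k n G hG)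
    (MumReg.serre_sys k n F hF) hN

end K52.KeySheaf
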