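import Groth.Agent.Coherent.K52.Acyc

/-!
# The boundedness core: pure sheaves with bounded slopes lie in Kleiman's class
-/

set_option autoImplicit false

universe u

open CategoryTheory CategoryTheory.Limits AlgebraicGeometry Opposite TopologicalSpace Polynomial

namespace K52.Main

open HZ SecZ Tower TowerH Desc Key SubGen KeySheaf Num HP K52.Seq K52.Bound KClass Acyc Groth.Agent
  Groth.Agent.Fga Groth.Agent.Fga.MumDict Groth.Agent.Fga.MumSES Groth.Agent.Fga.MumBC
  Groth.Agent.Fga.TwistGr Groth.Agent.Fga.MumSys Groth.Agent.Fga.MumCast Groth.Agent.Fga.MumFinal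
  Groth.Agent.Fga.MumLES Groth.Agent.Fga.MumReg Groth.Agent.PerfB.TwistDer Groth.Agent.Fga.GrFam

/-- The list of bounds: `m ↦ ⌊r * ff (j+1) (m + X + (j+1))⌋` for `j = d - 1, …, 0`. -/
noncomputable def bl (r : ℕ) (X : ℚ) : ℕ → List (ℤ → ℤ)
  | 0 => []
  | j + 1 => (fun m => ⌊(r : ℚ) * ff (j + 1) (m + X + (j + 1))⌋) :: bl r X j

theorem length_bl (r : ℕ) (X : ℚ) (d : ℕ) : (bl r X d).length = d := by
  induction d with
  | zero => rfl
  | succ d ih => rw [bl, List.length_cons, ih]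

variable {k : Type u} [Field k] {n : ℕ} [CharZero k]

/-- The shift in the bounds. -/
def XX (d r : ℕ) (b : ℚ) : ℚ := b - (d - 1) / 2 + (r - 1)

section

variable {F : (PP k n).Modules} {d r : ℕ} {b : ℚ} (H : Hyp F d r b)

include H

/-- **Membership in Kleiman's class.** -/
theorem kc_aux (j t : ℕ) (hj : t + j = d) : Kc (bl r (XX d r b) j) (T (Fsys k n F) t) := by
  induction j generalizing t with
  | zero =>
    obtain rfl : t = d := by omega
    exact fun i hi m => acyclic H i hi m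
  | succ j ih =>
    refine ⟨fun m => ?_, uu k n t, fun r s h p => T_mono (Fsys k n F) t r s h p, ih (t + 1) (by omega)⟩
    have h1 := hd_le H j t (by omega) m
    exact Int.le_floor.2 h1

/-- **Membership in Kleiman's class.** -/
theorem kc : Kc (bl r (XX d r b) d) (T (Fsys k n F) 0) := kc_aux H d 0 (by omega)

end

theorem hd_zero (F : (PP k n).Modules) (m : ℤ) :
    hd F 0 m = (Module.finrank k (Coh.HH (PP k n) (tw F m) 0) : ℤ) := by
  rw [← finrank_zero]
  unfold hd hT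
  congr 1
  exact bc_finrank (OO k n) _ 0

theorem reg_iff (F : (PP k n).Modules) (μ : ℤ) : Reg (T (Fsys k n F) 0) μ ↔ Reg (Fsys k n F) μ :=
  forall_congr' fun i => forall_congr' fun _ => bc_subsingleton_iff (OO k n) _ i

omit [CharZero k] in
theorem reg_HH {F : (PP k n).Modules} (hF : Coh.IsCoh F) {μ : ℤ} (h : Reg (Fsys k n F) μ) (i : ℕ)
    (hi : 1 ≤ i) (m : ℤ) (hm : μ - i ≤ m) : Subsingleton (Coh.HH (PP k n) (tw F m) i) := by
  obtain ⟨i, rfl⟩ : ∃ i', i = i' + 1 := ⟨i - 1, by omega⟩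
  exact (subsingleton_iff hF.1 m i).1 ((castelnuovo (n + 1) k _ μ h).1 (i + 1) m hi hm)

section

variable {F : (PP k n).Modules} {d r : ℕ} {b : ℚ} (H : Hyp F d r b)

include H

/-- **The bound on the number of sections.** -/
theorem h0_le (hd : 1 ≤ d) (m : ℤ) :
    (Module.finrank k (Coh.HH (PP k n) (tw F m) 0) : ℚ) ≤ r * ff d (m + XX d r b + d) := by
  obtain ⟨e, rfl⟩ : ∃ e, d = e + 1 := ⟨d - 1, by omega⟩
  have h1 := hd_le H e 0 (by omega) m
  rw [hd_zero] at h1
  have h2 : ((e + 1 : ℕ) : ℚ) = (e : ℚ) + 1 := by push_cast; rfl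
  rw [XX, h2]
  rw [h2] at h1
  exact_mod_cast h1

/-- The vanishing of the sections. -/
theorem h0_eq_zero (hd : 1 ≤ d) (m : ℤ) (hm : (m : ℚ) + XX d r b + d ≤ 0) :
    Module.finrank k (Coh.HH (PP k n) (tw F m) 0) = 0 := by
  obtain ⟨e, rfl⟩ : ∃ e, d = e + 1 := ⟨d - 1, by omega⟩
  have h1 := hd_eq_zero H e 0 (by omega) m (by
    rw [XX] at hm
    push_cast at hm ⊢
    exact hm)
  rw [hd_zero] at h1
  exact_mod_cast h1

theorem serre0 : Serre (T (Fsys k n F) 0) := serre_T _ (serre_sys k n F H.coh) 0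

theorem fin0 (i : ℕ) (m : ℤ) : Module.Finite (OO k n) (((T (Fsys k n F) 0).C m).homology i) :=
  finite_T _ (finite_homology F H.coh) 0 i m

theorem chi0 {P : ℚ[X]} (hP : HP k F P) (m : ℤ) :
    (chi (n + 1) ((T (Fsys k n F) 0).C m) : ℚ) = P.eval (m : ℚ) := chiT_eq H.coh hP 0 m

end

end K52.Main
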