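import Groth.Agent.Fga.MumReg
import Groth.Agent.Coherent.K52.HZ
import Groth.Agent.Dcoh.FreeSec
import Groth.Agent.S0024

/-!
# Zero cycles of the Čech system as global sections
-/

set_option autoImplicit false

universe u

open CategoryTheory CategoryTheory.Limits AlgebraicGeometry Opposite TopologicalSpace
open Groth.Agent.CohqA.CechBasic Groth.Agent.CohqA.CechSheaf Groth.Agent.CurvesB.HZero

namespace K52.SecZ

open HZ Groth.Agent.Fga Groth.Agent.Fga.MumCech Groth.Agent.Fga.MumCechH Groth.Agent.Fga.MumDict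
  Groth.Agent.Fga.TwistGr Groth.Agent.Fga.MumSys

attribute [local instance] modP

section Gen

variable (k : Type u) [Field k] {X : Scheme.{u}} [X.Over (Spec (CommRingCat.of k))]
variable {ι : Type u} (U : ι → X.Opens) {M N : X.Modules}

theorem Z_eq (M : X.Modules) : Z (cechk k U M) = LinearMap.ker (dk k U M 0) := by
  have h2 : (cechk k U M).d 0 1 = ModuleCat.ofHom (dk k U M 0) := cechk_d k U M 0
  rw [Z, h2]
  rfl

theorem aug_nat (φ : M ⟶ N) (m : M.presheaf.obj (op (⊤ : X.Opens))) :
    mapk k U φ 0 (aug k U M m) = aug k U N (φ.app ⊤ m) := by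
  funext i
  rw [mapk_apply, aug_apply, aug_apply, MumCech.app_res]

variable {U}

/-- Global sections as zero cycles. -/
noncomputable def secEquiv (hU : ⨆ i, U i = ⊤) (M : X.Modules) :
    M.presheaf.obj (op (⊤ : X.Opens)) ≃ₗ[k] Z (cechk k U M) :=
  (LinearEquiv.ofInjective _ (aug_injective k M hU)).trans
    (LinearEquiv.ofEq _ _ ((range_aug k M hU).trans (Z_eq k U M).symm))

theorem secEquiv_coe (hU : ⨆ i, U i = ⊤) (M : X.Modules) (m : M.presheaf.obj (op (⊤ : X.Opens))) :
    (secEquiv k hU M m : (cechk k U M).X 0) = aug k U M m := rfl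

theorem secEquiv_nat (hU : ⨆ i, U i = ⊤) (φ : M ⟶ N) (m : M.presheaf.obj (op (⊤ : X.Opens))) :
    zmap (cechkMap k U φ) (secEquiv k hU M m) = secEquiv k hU N (φ.app ⊤ m) :=
  Subtype.ext (aug_nat k U φ m)

end Gen

variable {k : Type u} [Field k] {n : ℕ}

/-- Global sections of `F(r)` as zero cycles. -/
noncomputable def sec (F : (PP k n).Modules) (r : ℤ) :
    ((grF F).obj r).presheaf.obj (op (⊤ : (PP k n).Opens)) ≃ₗ[k] Z ((Fsys k n F).C r) :=
  secEquiv k (iSup_UU k n) ((grF F).obj r)

theorem sec_nat {F G : (PP k n).Modules} (φ : F ⟶ G) (r : ℤ)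
    (m : ((grF F).obj r).presheaf.obj (op (⊤ : (PP k n).Opens))) :
    zmap ((Fhom φ).f r) (sec F r m) = sec G r ((wm φ r).app ⊤ m) :=
  secEquiv_nat k (iSup_UU k n) (wm φ r) m

theorem gl_surjective : Function.Surjective (gl k (PP k n)) := by
  have h1 := Groth.Agent.S0024.result n k
  have h2 : Function.Surjective ((Scheme.ΓSpecIso (CommRingCat.of k)).inv ≫
      (CohB1.ProjSpace.toSpec n k).appTop).hom :=
    ((ConcreteCategory.isIso_iff_bijective _).1 inferInstance).2
  exact h2

open Groth.Agent.Dcoh.FreeSec in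
theorem sum_coord {X : Scheme.{u}} {q : ℕ} (s : Γ(FlatMod.freeMod X q, ⊤)) :
    ∑ j : Fin q, (show Γ(X, ⊤) from (pr X j).app ⊤ s) • e X j = s := by
  have h : (∑ j : Fin q, pr X j ≫ Sigma.ι (fun _ : Fin q => Coh.structureModule X) j).app ⊤ s = s := by
    rw [sum_pr_ι]; rfl
  have key : ∀ (F : Fin q → (FlatMod.freeMod X q ⟶ FlatMod.freeMod X q)),
      (∑ a, F a).app ⊤ s = ∑ a, (F a).app ⊤ s := by
    intro F
    classical
    have : ∀ (S : Finset (Fin q)), (∑ a ∈ S, F a).app ⊤ s = ∑ a ∈ S, (F a).app ⊤ s := by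
      intro S
      induction S using Finset.induction_on with
      | empty => rfl
      | insert a S ha ih =>
        rw [Finset.sum_insert ha, Finset.sum_insert ha, ← ih]
        rfl
    exact this _
  rw [key] at h
  refine Eq.trans ?_ h
  refine Finset.sum_congr rfl fun j _ => ?_
  have h1 : (show Γ(X, ⊤) from (pr X j).app ⊤ s) • one X = (pr X j).app ⊤ s :=
    mul_one (show Γ(X, ⊤) from (pr X j).app ⊤ s)
  refine Eq.trans ?_ (congrArg ((Sigma.ι (fun _ : Fin q => Coh.structureModule X) j).app ⊤) h1)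
  exact ((Sigma.ι (fun _ : Fin q => Coh.structureModule X) j).app_smul _ _).symm

open Groth.Agent.Dcoh.FreeSec in
/-- The sections of a free module are the `k`-combinations of the basis. -/
theorem free_span (q : ℕ) (s : (FlatMod.freeMod (PP k n) q).presheaf.obj (op (⊤ : (PP k n).Opens))) :
    ∃ a : Fin q → k, s = ∑ j, a j • ((e (PP k n) j :
        (FlatMod.freeMod (PP k n) q).presheaf.obj (op (⊤ : (PP k n).Opens)))) := by
  choose a ha using fun j : Fin q => gl_surjective (k := k) (n := n)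
    (show Γ(PP k n, ⊤) from (pr (PP k n) j).app ⊤ s)
  refine ⟨a, ?_⟩
  refine (sum_coord (X := PP k n) s).symm.trans ?_
  refine Finset.sum_congr rfl fun j _ => ?_
  rw [← ha]
  exact congrArg (fun c : Γ(PP k n, ⊤) => c • e (PP k n) j)
    (glV_top k (X := PP k n) (a j)).symm

end K52.SecZ
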