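import Groth.Agent.Coherent.K52.SecZ
import Groth.Agent.Coherent.K52.NoethFam
import Groth.Agent.Sga67.CohBasic

/-!
# Coherent subsheaves attached to graded families of sections

`exists_sub`: for `E` coherent on `P^n_k` and subspaces `N r` of the sections of `E(r)`, stable under the
variables, there is a coherent subsheaf `G` of `E` whose sections are `N r` for large `r`.
-/

set_option autoImplicit false

universe u

open CategoryTheory CategoryTheory.Limits AlgebraicGeometry Opposite TopologicalSpace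
open Groth.Agent.CohqA.CechBasic

namespace K52.SubGen

open HZ SecZ Groth.Agent Groth.Agent.Fga Groth.Agent.Fga.MumCech Groth.Agent.Fga.MumDict
  Groth.Agent.Fga.TwistGr Groth.Agent.Fga.MumSys Groth.Agent.Fga.MumCast Groth.Agent.Fga.MumFinal
  Groth.Agent.Fga.MumLES Groth.Agent.PerfB.TwistDer

attribute [local instance] modP

variable {k : Type u} [Field k] {n : ℕ}

/-- `O(-r)^q`. -/
noncomputable abbrev LL (k : Type u) [Field k] (n : ℕ) (r : ℤ) (q : ℕ) : (PP k n).Modules :=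
  (twM n k (-r)).obj (FlatMod.freeMod (PP k n) q)

/-- `O(-r)^q ⊗ O(r) ≅ O^q`. -/
noncomputable def cc (k : Type u) [Field k] (n : ℕ) (r : ℤ) (q : ℕ) :
    (twM n k r).obj (LL k n r q) ≅ FlatMod.freeMod (PP k n) q :=
  (twMComp n k (-r) r 0 (by ring) ≪≫ twMZero n k).app (FlatMod.freeMod (PP k n) q)

/-- The morphism attached to sections of `F(r)`. -/
theorem exists_mor (F : (PP k n).Modules) (r : ℤ) {q : ℕ}
    (e : Fin q → ((grF F).obj r).presheaf.obj (op (⊤ : (PP k n).Opens))) :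
    ∃ ψ : LL k n r q ⟶ F, wm ψ r = (cc k n r q).hom ≫ Dcoh.FreeSec.ofSecs ((grF F).obj r) e := by
  have : (twM n k r).Full := inferInstanceAs (twMEquiv n k r).functor.Full
  exact ⟨(twM n k r).preimage ((cc k n r q).hom ≫ Dcoh.FreeSec.ofSecs ((grF F).obj r) e),
    (twM n k r).map_preimage _⟩

theorem map_cc (F : (PP k n).Modules) (r : ℤ) {q : ℕ}
    (e : Fin q → ((grF F).obj r).presheaf.obj (op (⊤ : (PP k n).Opens)))
    (ψ : LL k n r q ⟶ F) (hψ : wm ψ r = (cc k n r q).hom ≫ Dcoh.FreeSec.ofSecs ((grF F).obj r) e) :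
    (zmap ((Fhom ψ).f r) : Z ((Fsys k n (LL k n r q)).C r) →ₗ[k] _).range =
      Submodule.span k (Set.range fun j => sec F r (e j)) := by
  have key : ∀ m, zmap ((Fhom ψ).f r) (sec (LL k n r q) r m) =
      sec F r ((Dcoh.FreeSec.ofSecs ((grF F).obj r) e).app ⊤ ((cc k n r q).hom.app ⊤ m)) := by
    intro m
    rw [sec_nat, hψ]
    rfl
  apply le_antisymm
  · rintro _ ⟨s, rfl⟩
    obtain ⟨m, rfl⟩ := (sec (LL k n r q) r).surjective s
    rw [key]
    obtain ⟨a, ha⟩ := free_span (k := k) (n := n) q ((cc k n r q).hom.app ⊤ m)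
    rw [ha]
    have h1 : (Dcoh.FreeSec.ofSecs ((grF F).obj r) e).app ⊤ (∑ j, a j •
        ((Dcoh.FreeSec.e (PP k n) j : (FlatMod.freeMod (PP k n) q).presheaf.obj
          (op (⊤ : (PP k n).Opens))))) = ∑ j, a j • e j := by
      rw [map_sum]
      refine Finset.sum_congr rfl fun j _ => ?_
      rw [MumCech.app_smul, Dcoh.FreeSec.ofSecs_app_e]
    refine Eq.subst (motive := fun w => sec F r w ∈ _) h1.symm ?_
    rw [map_sum]
    refine Submodule.sum_mem _ fun j _ => ?_
    rw [map_smul]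
    exact Submodule.smul_mem _ _ (Submodule.subset_span ⟨j, rfl⟩)
  · rw [Submodule.span_le]
    rintro _ ⟨j, rfl⟩
    refine ⟨sec (LL k n r q) r ((cc k n r q).inv.app ⊤ (Dcoh.FreeSec.e (PP k n) j)), ?_⟩
    refine (key _).trans ?_
    have h1 : (cc k n r q).hom.app ⊤ ((cc k n r q).inv.app ⊤ (Dcoh.FreeSec.e (PP k n) j)) =
        Dcoh.FreeSec.e (PP k n) j := by
      change ((cc k n r q).inv ≫ (cc k n r q).hom).app ⊤ (Dcoh.FreeSec.e (PP k n) j) = _
      rw [Iso.inv_hom_id]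
      rfl
    rw [h1, Dcoh.FreeSec.ofSecs_app_e]

theorem subsingleton_of_iso {X : Scheme.{u}} {M N : X.Modules} (e : M ≅ N) (n : ℕ)
    (h : Subsingleton (Coh.HH X M n)) : Subsingleton (Coh.HH X N n) := by
  refine ⟨fun a b => ?_⟩
  have e' := (SheafOfModules.toSheaf X.ringCatSheaf).mapIso e
  have key : ∀ a : Coh.HH X N n, Sheaf.H.map e'.hom n (Sheaf.H.map e'.inv n a) = a := by
    intro a
    rw [← Sheaf.H.map_comp_apply, e'.inv_hom_id, Sheaf.H.map_id_apply]
  rw [← key a, ← key b]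
  congr 1
  exact h.elim _ _

/-- The system of `O(-r)^q` is `r`-regular. -/
theorem reg_LL (r : ℤ) (q : ℕ) : Reg (Fsys k n (LL k n r q)) r := by
  intro i hi
  obtain ⟨j, rfl⟩ : ∃ j, i = j + 1 := ⟨i - 1, by omega⟩
  have hq : Coh.IsQCoh (LL k n r q) := isQCoh_twM n k (-r) _ (Ega2.QCohLocal.isQCoh_freeMod _ q)
  rw [subsingleton_iff hq]
  have h1 := MumInputs.free_vanish k n q (j + 1) hi (-((j + 1 : ℕ) : ℤ)) (by omega)
  have e : CohB1.tensorMod (LL k n r q) (Twist.twistProjSpace n k (r - ((j + 1 : ℕ) : ℤ))) ≅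
      CohB1.tensorMod (FlatMod.freeMod (PP k n) q) (Twist.twistProjSpace n k (-((j + 1 : ℕ) : ℤ))) :=
    (twMComp n k (-r) (r - ((j + 1 : ℕ) : ℤ)) (-((j + 1 : ℕ) : ℤ)) (by ring)).app
      (FlatMod.freeMod (PP k n) q)
  exact subsingleton_of_iso e.symm (j + 1) h1

end K52.SubGen
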