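import Groth.Agent.Coherent.K52.SubGen
import Groth.Agent.Coherent.K52.GenFam
import Groth.Agent.VarietyB.EulerBinom

/-!
# Coherent subsheaves attached to graded families of sections
-/

set_option autoImplicit false

universe u

open CategoryTheory CategoryTheory.Limits AlgebraicGeometry Opposite TopologicalSpace
open Groth.Agent.CohqA.CechBasic

namespace K52.SubGen

open HZ SecZ Groth.Agent Groth.Agent.Fga Groth.Agent.Fga.MumCech Groth.Agent.Fga.MumDict
  Groth.Agent.Fga.TwistGr Groth.Agent.Fga.MumSys Groth.Agent.Fga.MumCast Groth.Agent.Fga.MumFinal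
  Groth.Agent.Fga.MumLES Groth.Agent.PerfB.TwistDer Groth.Agent.Fga.GrFam

attribute [local instance] modP

variable {k : Type u} [Field k] {n : ℕ}

theorem finite_Z (F : (PP k n).Modules) (hF : Coh.IsCoh F) (r : ℤ) :
    Module.Finite k (Z ((Fsys k n F).C r)) := by
  rw [finite_Z_iff, finite_zero_iff]
  have : IsProper (PP k n ↘ Spec (CommRingCat.of k)) := VarietyB.EulerBinom.isProper_over k n
  exact Groth.Agent.S0002.result k _ _
    (CohqB.SerTw.isCoh_tensorMod hF (isInvertible_tw n k r)) 0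

theorem isLocallyNoetherian (k : Type u) [Field k] (n : ℕ) : IsLocallyNoetherian (PP k n) := by
  have : IsProper (PP k n ↘ Spec (CommRingCat.of k)) := VarietyB.EulerBinom.isProper_over k n
  exact LocallyOfFiniteType.isLocallyNoetherian (PP k n ↘ (Spec (CommRingCat.of k)))

theorem isCoh_LL (r : ℤ) (q : ℕ) : Coh.IsCoh (LL k n r q) :=
  CohqB.SerTw.isCoh_tensorMod (VarietyB.EulerBinom.isCoh_free k n q) (isInvertible_tw n k (-r))

/-- A morphism from `O(-r)^q` whose sections in degree `r` are prescribed. -/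
theorem exists_mor' (F : (PP k n).Modules) (r : ℤ) {q : ℕ} (b : Fin q → Z ((Fsys k n F).C r)) :
    ∃ ψ : LL k n r q ⟶ F, LinearMap.range (zmap ((Fhom ψ).f r)) =
      Submodule.span k (Set.range b) := by
  obtain ⟨ψ, hψ⟩ := exists_mor F r (fun j => (sec F r).symm (b j))
  refine ⟨ψ, (map_cc F r _ ψ hψ).trans ?_⟩
  congr 1
  congr 1
  funext j
  exact (sec F r).apply_symm_apply (b j)

theorem Fhom_comp {A B C : (PP k n).Modules} (f : A ⟶ B) (g : B ⟶ C) (m : ℤ) :
    (Fhom f).f m ≫ (Fhom g).f m = (Fhom (f ≫ g)).f m := by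
  change cechkMap k (UU (dplus n k)) (wm f m) ≫ cechkMap k (UU (dplus n k)) (wm g m) =
    cechkMap k (UU (dplus n k)) (wm (f ≫ g) m)
  rw [← cechkMap_comp, ← wm_comp]

theorem shortExact_of_epi {X : Scheme.{u}} {A B : X.Modules} (p : A ⟶ B) [Epi p] :
    (ShortComplex.mk (kernel.ι p) p (kernel.condition p)).ShortExact :=
  { exact := ShortComplex.exact_kernel p
    mono_f := inferInstance
    epi_g := inferInstance }

/-- Sections of a quotient, in large degrees. -/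
theorem exists_surj {A B : (PP k n).Modules} (p : A ⟶ B) [Epi p] (hA : Coh.IsCoh A)
    (hB : Coh.IsCoh B) : ∃ r₁ : ℤ, ∀ m : ℤ, r₁ ≤ m → Function.Surjective (zmap ((Fhom p).f m)) := by
  have hLN := isLocallyNoetherian k n
  have hK : Coh.IsCoh (kernel p) := Sga67.CohBasic.isCoh_kernel p hA hB.1
  obtain ⟨r₁, hr₁⟩ := MumReg.serre_sys k n (kernel p) hK
  exact ⟨r₁, fun m hm =>
    zmap_surjective ((sesSys (shortExact_of_epi p) hK.1).exact m) (hr₁ m hm 1 le_rfl)⟩

/-- Generators of the family in one degree. -/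
theorem exists_gens (F : (PP k n).Modules) (hF : Coh.IsCoh F)
    (N' : ∀ r : ℤ, Submodule k (Z ((Fsys k n F).C r)))
    (hx : ∀ (j : Fin (n + 1)) (r s : ℤ) (h : r + 1 = s) (v : Z ((Fsys k n F).C r)), v ∈ N' r →
      zmap ((Fsys k n F).x j r s h) v ∈ N' s) :
    ∃ (r₀ : ℤ) (q : ℕ) (ψ : LL k n r₀ q ⟶ F), ∀ r : ℤ, r₀ ≤ r →
      LinearMap.range (zmap ((Fhom ψ).f r)) = N' r := by
  obtain ⟨μ, hμ⟩ := GenFam.exists_reg (Fsys k n F) (MumReg.serre_sys k n F hF)
  obtain ⟨r₀, hr₀, hgen⟩ := GenFam.exists_gen (Fsys k n F) (castelnuovo _ _ _ μ hμ).2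
    (finite_Z F hF μ) N' hx
  have hfin := finite_Z F hF r₀
  let B := Module.finBasis k (N' r₀)
  obtain ⟨ψ, hψ⟩ := exists_mor' F r₀ (fun j => (B j : Z ((Fsys k n F).C r₀)))
  have h1 := congrArg (Submodule.map (N' r₀).subtype) B.span_eq
  rw [Submodule.map_span, Submodule.map_top, Submodule.range_subtype, ← Set.range_comp] at h1
  exact ⟨r₀, _, ψ, GenFam.range_eq (Fsys k n F) (Fhom ψ)
    (castelnuovo _ _ _ r₀ (reg_LL (k := k) (n := n) r₀ _)).2 N' hx hgen (hψ.trans h1)⟩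

/-- **Subsheaves from graded families of sections.** -/
theorem exists_sub (F : (PP k n).Modules) (hF : Coh.IsCoh F)
    (N : ∀ r : ℤ, Submodule k (((Fsys k n F).C r).X 0)) (hNZ : ∀ r, N r ≤ Z ((Fsys k n F).C r))
    (hx : ∀ (j : Fin (n + 1)) (r s : ℤ) (h : r + 1 = s) (v : ((Fsys k n F).C r).X 0), v ∈ N r →
      ((Fsys k n F).x j r s h).f 0 v ∈ N s) :
    ∃ (G : (PP k n).Modules) (ι : G ⟶ F), Mono ι ∧ Coh.IsCoh G ∧ ∃ m₀ : ℤ, ∀ m : ℤ, m₀ ≤ m →
      N m = (Z ((Fsys k n G).C m)).map (((Fhom ι).f m).f 0).hom := by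
  obtain ⟨r₀, q, ψ, hψ⟩ := exists_gens F hF (GenFam.inZ (Fsys k n F) N)
    (GenFam.inZ_stable (Fsys k n F) N hx)
  have hL : Coh.IsCoh (LL k n r₀ q) := isCoh_LL r₀ q
  have hG : Coh.IsCoh (Abelian.image ψ) := Sga67.CohBasic.isCoh_image ψ hL hF.1
  obtain ⟨r₁, hr₁⟩ := exists_surj (Abelian.factorThruImage ψ) hL hG
  refine ⟨Abelian.image ψ, Abelian.image.ι ψ, inferInstance, hG, max r₀ r₁, fun m hm => ?_⟩
  refine GenFam.map_eq (Fsys k n F) (Fhom (Abelian.factorThruImage ψ)) (Fhom (Abelian.image.ι ψ))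
    (Fhom ψ) m ?_ (hr₁ m ((le_max_right _ _).trans hm)) N (hNZ m)
    (hψ m ((le_max_left _ _).trans hm))
  rw [Fhom_comp, Abelian.image.fac]

end K52.SubGen
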