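import Groth.Agent.Coherent.K52.Weyl
import Groth.Agent.Fga.MumBC
import Groth.Agent.Fga.MumSES

/-!
# The tower of generic linear sections over a fixed rational function field

For a graded system `S₀` over `k` in `n+1` variables, `Om` is the field of rational functions in variables
`u (i, j)`, `i ∈ ℕ`, `j ≤ n`, and `T S₀ t` is the quotient of `S₀ ⊗ Om` by the generic linear forms
`λ_i = ∑ u (i,j) x_j`, `i < t` (all variables are kept).

* `Lev`: the structure (comparison map from `S₀`, differential operators of degree one) on the levels.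
* `inj`: the generic form `λ_t` is injective on `T S₀ t`, in characteristic zero.
-/

set_option autoImplicit false

universe u

open CategoryTheory CategoryTheory.Limits
open scoped TensorProduct

namespace K52.Tower

open Der Weyl Groth.Agent.Fga.MumSys Groth.Agent.Fga.MumBC Groth.Agent.Fga.MumSES

theorem lin_apply {m : ℕ} {K : Type u} [Field K] (S : Sys m K) (a : Fin m → K) (p : ℕ) (r s : ℤ)
    (h : r + 1 = s) (v : (S.C r).X p) :
    (S.lin a r s h).f p v = ∑ l, a l • (S.x l r s h).f p v := by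
  have h1 := congrArg (fun f => f.hom v) (S.lin_f a r s h p)
  simp only [ModuleCat.hom_sum, LinearMap.sum_apply] at h1
  exact h1

section Quot

variable {n : ℕ} {K : Type u} [Field K] (S : Sys (n + 1) K) (a : Fin (n + 1) → K)

/-- The quotient of a system by a linear form, keeping all variables. -/
noncomputable def quot' : Sys (n + 1) K where
  C := quotC S a
  x j := quotx S a j
  comm i j r s t h h' := by
    rw [← cancel_epi (quotπ S a r), quotπ_quotx_assoc, quotπ_quotx_assoc, quotπ_quotx, quotπ_quotx,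
      ← Category.assoc, ← Category.assoc, S.comm]
  ex p := by
    obtain ⟨y, h1, h2⟩ := S.ex p
    have hy : ∀ (i : Fin (n + 1)) (r s t : ℤ) (h : r + 1 = s) (h' : s + 1 = t),
        y i r s h ≫ (S.lin a r s h).f p = (S.lin a s t h').f p ≫ y i s t h' := by
      intro i r s t h h'
      rw [S.lin_f, S.lin_f, Preadditive.comp_sum, Preadditive.sum_comp]
      refine Finset.sum_congr rfl fun j _ => ?_
      rw [Linear.comp_smul, Linear.smul_comp, h1]
    have hw : ∀ (i : Fin (n + 1)) (r s : ℤ) (h : r + 1 = s),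
        (S.lin a (s - 1) s (by ring)).f p ≫ y i r s h ≫ (quotπ S a r).f p = 0 := by
      intro i r s h
      obtain rfl : r = s - 1 := by omega
      rw [← Category.assoc, ← hy i (s - 1 - 1) (s - 1) s (by ring) h, Category.assoc,
        ← HomologicalComplex.comp_f, lin_quotπ, HomologicalComplex.zero_f, comp_zero]
    let y' : ∀ (i : Fin (n + 1)) (r s : ℤ) (_ : r + 1 = s), (quotC S a s).X p ⟶ (quotC S a r).X p :=
      fun i r s h => (exact_quotπ_f S a (s - 1) s (by ring) p).desc
        (y i r s h ≫ (quotπ S a r).f p) (hw i r s h)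
    have hy' : ∀ (i : Fin (n + 1)) (r s : ℤ) (h : r + 1 = s),
        (quotπ S a s).f p ≫ y' i r s h = y i r s h ≫ (quotπ S a r).f p := fun i r s h =>
      (exact_quotπ_f S a (s - 1) s (by ring) p).g_desc _ _
    have hx' : ∀ (j : Fin (n + 1)) (r s : ℤ) (h : r + 1 = s),
        (quotπ S a r).f p ≫ (quotx S a j r s h).f p = (S.x j r s h).f p ≫ (quotπ S a s).f p := by
      intro j r s h
      rw [← HomologicalComplex.comp_f, quotπ_quotx, HomologicalComplex.comp_f]
    refine ⟨y', fun i j r s t h h' => ?_, fun r s h => ?_⟩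
    · rw [← cancel_epi ((quotπ S a s).f p), ← Category.assoc, hy', Category.assoc, hx',
        ← Category.assoc ((quotπ S a s).f p), hx', Category.assoc, hy', ← Category.assoc,
        ← Category.assoc, h1 _ _ r s t h h']
    · rw [← cancel_epi ((quotπ S a s).f p), Preadditive.comp_sum, Category.comp_id]
      have e1 : ∀ i : Fin (n + 1), (quotπ S a s).f p ≫ y' i r s h ≫ (quotx S a i r s h).f p =
          (y i r s h ≫ (S.x i r s h).f p) ≫ (quotπ S a s).f p := by
        intro i
        rw [← Category.assoc, hy', Category.assoc, hx', Category.assoc]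
      rw [Finset.sum_congr rfl fun i _ => e1 i, ← Preadditive.sum_comp, h2, Category.id_comp]

theorem quot'_C (s : ℤ) : (quot' S a).C s = quotC S a s := rfl

/-- The projection on terms, as a linear map. -/
noncomputable def pr (p : ℕ) (r : ℤ) : (S.C r).X p →ₗ[K] ((quot' S a).C r).X p :=
  ((quotπ S a r).f p).hom

theorem pr_surjective (p : ℕ) (r : ℤ) : Function.Surjective (pr S a p r) :=
  (ModuleCat.epi_iff_surjective _).1 (epi_quotπ_f S a r p)

theorem pr_exact (p : ℕ) (r s : ℤ) (h : r + 1 = s) :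
    Function.Exact ((S.lin a r s h).f p).hom (pr S a p s) :=
  exact_fun (exact_quotπ_f S a r s h p)

theorem pr_x (p : ℕ) (j : Fin (n + 1)) (r s : ℤ) (h : r + 1 = s) (v : (S.C r).X p) :
    pr S a p s ((S.x j r s h).f p v) = ((quot' S a).x j r s h).f p (pr S a p r v) :=
  (congrArg (fun f => f.f p v) (quotπ_quotx S a j r s h)).symm

theorem pr_d (p : ℕ) (r : ℤ) (v : (S.C r).X p) :
    pr S a (p + 1) r ((S.C r).d p (p + 1) v) = ((quot' S a).C r).d p (p + 1) (pr S a p r v) :=
  (congrArg (fun f => f v) ((quotπ S a r).comm p (p + 1))).symm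

/-- The projection, as a morphism of complexes. -/
noncomputable def qp (r : ℤ) : S.C r ⟶ (quot' S a).C r := quotπ S a r

instance epi_qp (r : ℤ) : Epi (qp S a r) := epi_quotπ S a r

theorem qp_x (j : Fin (n + 1)) (r s : ℤ) (h : r + 1 = s) :
    qp S a r ≫ (quot' S a).x j r s h = S.x j r s h ≫ qp S a s := quotπ_quotx S a j r s h

theorem quot'_lin (b : Fin (n + 1) → K) (r s : ℤ) (h : r + 1 = s) :
    qp S a r ≫ (quot' S a).lin b r s h = S.lin b r s h ≫ qp S a s := by
  simp only [Sys.lin, Preadditive.sum_comp, Preadditive.comp_sum, Linear.smul_comp, Linear.comp_smul]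
  exact Finset.sum_congr rfl fun j _ => congrArg _ (qp_x S a j r s h)

theorem quot'_lin_self (r s : ℤ) (h : r + 1 = s) : (quot' S a).lin a r s h = 0 := by
  have := quot'_lin S a a r s h
  have h2 : S.lin a r s h ≫ qp S a s = 0 := lin_quotπ S a r s h
  rw [h2] at this
  rw [← cancel_epi (qp S a r), this, comp_zero]

theorem quot'_lin_of (b : Fin (n + 1) → K) (hb : ∀ r s h, S.lin b r s h = 0) (r s : ℤ)
    (h : r + 1 = s) : (quot' S a).lin b r s h = 0 := by
  rw [← cancel_epi (qp S a r), quot'_lin, hb, zero_comp, comp_zero]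

end Quot

variable (k : Type u) [Field k] (n : ℕ)

/-- The variables. -/
abbrev II : Type := ℕ × Fin (n + 1)

/-- The field. -/
abbrev OO : Type u := Om k (II n)

/-- The coefficients of the generic forms. -/
noncomputable abbrev uu (t : ℕ) : Fin (n + 1) → OO k n := fun j => U k (t, j)

variable {k n}

/-- A differential operator of degree one with symbol `c ↦ ∑ δ_j (c) x_j`. -/
structure Op (S : Sys (n + 1) (OO k n)) (δ : Fin (n + 1) → Derivation k (OO k n) (OO k n)) where
  E : ∀ (p : ℕ) (r s : ℤ), r + 1 = s → ((S.C r).X p →+ (S.C s).X p)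
  smul : ∀ (p : ℕ) (r s : ℤ) (h : r + 1 = s) (c : OO k n) (v : (S.C r).X p),
    E p r s h (c • v) = c • E p r s h v + ∑ j, δ j c • (S.x j r s h).f p v
  x : ∀ (p : ℕ) (j : Fin (n + 1)) (r s t : ℤ) (h : r + 1 = s) (h' : s + 1 = t) (v : (S.C r).X p),
    E p s t h' ((S.x j r s h).f p v) = (S.x j s t h').f p (E p r s h v)
  d : ∀ (p : ℕ) (r s : ℤ) (h : r + 1 = s) (v : (S.C r).X p),
    E (p + 1) r s h ((S.C r).d p (p + 1) v) = (S.C s).d p (p + 1) (E p r s h v)

/-- The condition under which the operator is compatible with the relations `λ_i`, `i < t`. -/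
def Sym (t : ℕ) (δ : Fin (n + 1) → Derivation k (OO k n) (OO k n)) : Prop :=
  ∀ i < t, ∀ j l, δ j (U k (i, l)) + δ l (U k (i, j)) = 0

theorem Op.lin {S : Sys (n + 1) (OO k n)} {δ : Fin (n + 1) → Derivation k (OO k n) (OO k n)}
    (O : Op S δ) (a : Fin (n + 1) → OO k n) (p : ℕ) (r s t : ℤ) (h : r + 1 = s) (h' : s + 1 = t)
    (v : (S.C r).X p) : O.E p s t h' ((S.lin a r s h).f p v) =
      (S.lin a s t h').f p (O.E p r s h v) +
        ∑ l, ∑ j, δ j (a l) • (S.x j s t h').f p ((S.x l r s h).f p v) := by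
  rw [lin_apply, lin_apply, map_sum, ← Finset.sum_add_distrib]
  refine Finset.sum_congr rfl fun l _ => ?_
  rw [O.smul, O.x p l r s t h h']

theorem xx_comm (S : Sys (n + 1) (OO k n)) (p : ℕ) (i j : Fin (n + 1)) (r s t : ℤ) (h : r + 1 = s)
    (h' : s + 1 = t) (v : (S.C r).X p) : (S.x j s t h').f p ((S.x i r s h).f p v) =
      (S.x i s t h').f p ((S.x j r s h).f p v) :=
  congrArg (fun f => f.f p v) (S.comm i j r s t h h')

/-- An antisymmetric symbol gives a commuting operator. -/
theorem Op.lin_eq {S : Sys (n + 1) (OO k n)} {δ : Fin (n + 1) → Derivation k (OO k n) (OO k n)}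
    (O : Op S δ) [CharZero k] (a : Fin (n + 1) → OO k n) (ha : ∀ j l, δ j (a l) + δ l (a j) = 0)
    (p : ℕ) (r s t : ℤ) (h : r + 1 = s) (h' : s + 1 = t) (v : (S.C r).X p) :
    O.E p s t h' ((S.lin a r s h).f p v) = (S.lin a s t h').f p (O.E p r s h v) := by
  rw [O.lin]
  have : CharZero (OO k n) := charZero_of_injective_algebraMap (algebraMap k (OO k n)).injective
  set Z := ∑ l, ∑ j, δ j (a l) • (S.x j s t h').f p ((S.x l r s h).f p v) with hZ
  have h1 : Z + Z = 0 := by
    have e2 : Z = ∑ l, ∑ j, δ l (a j) • (S.x j s t h').f p ((S.x l r s h).f p v) := by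
      rw [hZ, Finset.sum_comm]
      refine Finset.sum_congr rfl fun l _ => Finset.sum_congr rfl fun j _ => ?_
      rw [xx_comm]
    conv_lhs => rw [e2, ← e2]
    nth_rewrite 1 [hZ]
    rw [e2, ← Finset.sum_add_distrib]
    refine Finset.sum_eq_zero fun l _ => ?_
    rw [← Finset.sum_add_distrib]
    refine Finset.sum_eq_zero fun j _ => ?_
    rw [← add_smul, ha, zero_smul]
  have h2 : (2 : OO k n) • Z = 0 := by rw [two_smul]; exact h1
  have h3 : Z = 0 := (smul_eq_zero_iff_right (two_ne_zero)).1 h2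
  rw [h3, add_zero]

/-- The descended operator on the quotient. -/
noncomputable def Op.quot {S : Sys (n + 1) (OO k n)}
    {δ : Fin (n + 1) → Derivation k (OO k n) (OO k n)} (O : Op S δ) [CharZero k]
    (a : Fin (n + 1) → OO k n) (ha : ∀ j l, δ j (a l) + δ l (a j) = 0) : Op (quot' S a) δ :=
  have key : ∀ (p : ℕ) (r s : ℤ) (h : r + 1 = s),
      (pr S a p r).toAddMonoidHom.ker ≤ ((pr S a p s).toAddMonoidHom.comp (O.E p r s h)).ker := by
    intro p r s h v hv
    obtain ⟨w, rfl⟩ := (pr_exact S a p (r - 1) r (by ring) v).1 hv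
    rw [AddMonoidHom.mem_ker]
    change pr S a p s (O.E p r s h ((S.lin a (r - 1) r (by ring)).f p w)) = 0
    rw [O.lin_eq a ha]
    exact (pr_exact S a p r s h).apply_apply_eq_zero _
  have hE : ∀ (p : ℕ) (r s : ℤ) (h : r + 1 = s) (v : (S.C r).X p),
      (AddMonoidHom.liftOfSurjective (pr S a p r).toAddMonoidHom (pr_surjective S a p r)
        ⟨(pr S a p s).toAddMonoidHom.comp (O.E p r s h), key p r s h⟩) (pr S a p r v) =
      pr S a p s (O.E p r s h v) := fun p r s h v =>
    AddMonoidHom.liftOfRightInverse_comp_apply _ _ _ _ _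
  { E := fun p r s h => AddMonoidHom.liftOfSurjective (pr S a p r).toAddMonoidHom
      (pr_surjective S a p r) ⟨(pr S a p s).toAddMonoidHom.comp (O.E p r s h), key p r s h⟩
    smul := by
      intro p r s h c v
      obtain ⟨v, rfl⟩ := pr_surjective S a p r v
      rw [← map_smul, hE, hE, O.smul, map_add, map_smul, map_sum]
      congr 1
      refine Finset.sum_congr rfl fun j _ => ?_
      rw [map_smul, pr_x]
    x := by
      intro p j r s t h h' v
      obtain ⟨v, rfl⟩ := pr_surjective S a p r v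
      rw [← pr_x, hE, hE, O.x p j r s t h h', pr_x]
    d := by
      intro p r s h v
      obtain ⟨v, rfl⟩ := pr_surjective S a p r v
      rw [← pr_d, hE, hE, O.d, pr_d] }

theorem Op.quot_pr {S : Sys (n + 1) (OO k n)}
    {δ : Fin (n + 1) → Derivation k (OO k n) (OO k n)} (O : Op S δ) [CharZero k]
    (a : Fin (n + 1) → OO k n) (ha : ∀ j l, δ j (a l) + δ l (a j) = 0) (p : ℕ) (r s : ℤ)
    (h : r + 1 = s) (v : (S.C r).X p) :
    (O.quot a ha).E p r s h (pr S a p r v) = pr S a p s (O.E p r s h v) :=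
  AddMonoidHom.liftOfRightInverse_comp_apply _ _ _ _ _

/-- The structure on a level of the tower. -/
structure Lev (S₀ : Sys (n + 1) k) (S : Sys (n + 1) (OO k n)) (t : ℕ) where
  ι : ∀ (p : ℕ) (r : ℤ), ((S₀.C r).X p →+ (S.C r).X p)
  ι_smul : ∀ (p : ℕ) (r : ℤ) (c : k) (v : (S₀.C r).X p),
    ι p r (c • v) = algebraMap k (OO k n) c • ι p r v
  ι_x : ∀ (p : ℕ) (j : Fin (n + 1)) (r s : ℤ) (h : r + 1 = s) (v : (S₀.C r).X p),
    ι p s ((S₀.x j r s h).f p v) = (S.x j r s h).f p (ι p r v)
  ι_d : ∀ (p : ℕ) (r : ℤ) (v : (S₀.C r).X p),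
    ι (p + 1) r ((S₀.C r).d p (p + 1) v) = (S.C r).d p (p + 1) (ι p r v)
  span : ∀ (p : ℕ) (r : ℤ), Submodule.span (OO k n) (Set.range (ι p r)) = ⊤
  rel : ∀ i < t, ∀ (r s : ℤ) (h : r + 1 = s), S.lin (uu k n i) r s h = 0
  op : ∀ δ : Fin (n + 1) → Derivation k (OO k n) (OO k n), Sym t δ → Op S δ
  op_ι : ∀ δ (hδ : Sym t δ) (p : ℕ) (r s : ℤ) (h : r + 1 = s) (v : (S₀.C r).X p),
    (op δ hδ).E p r s h (ι p r v) = 0

/-- The next level. -/
noncomputable def Lev.succ [CharZero k] {S₀ : Sys (n + 1) k} {S : Sys (n + 1) (OO k n)} {t : ℕ}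
    (L : Lev S₀ S t) : Lev S₀ (quot' S (uu k n t)) (t + 1) where
  ι p r := (pr S (uu k n t) p r).toAddMonoidHom.comp (L.ι p r)
  ι_smul p r c v := by
    change pr S (uu k n t) p r (L.ι p r (c • v)) = _ • pr S (uu k n t) p r (L.ι p r v)
    rw [L.ι_smul, map_smul]
  ι_x p j r s h v := by
    change pr S (uu k n t) p s (L.ι p s _) = _
    rw [L.ι_x, pr_x]
    rfl
  ι_d p r v := by
    change pr S (uu k n t) (p + 1) r (L.ι (p + 1) r _) = _
    rw [L.ι_d, pr_d]
    rfl
  span p r := by
    have h1 := congrArg (Submodule.map (pr S (uu k n t) p r)) (L.span p r)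
    rw [Submodule.map_top, LinearMap.range_eq_top.2 (pr_surjective S (uu k n t) p r),
      Submodule.map_span, ← Set.range_comp] at h1
    exact h1
  rel i hi r s h := by
    rcases Nat.lt_succ_iff_lt_or_eq.1 hi with hi | rfl
    · exact quot'_lin_of S _ _ (L.rel i hi) r s h
    · exact quot'_lin_self S _ r s h
  op δ hδ := (L.op δ (fun i hi => hδ i (Nat.lt_succ_of_lt hi))).quot (uu k n t)
    (hδ t (Nat.lt_succ_self t))
  op_ι δ hδ p r s h v := by
    change (((L.op δ (fun i hi => hδ i (Nat.lt_succ_of_lt hi))).quot (uu k n t)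
      (hδ t (Nat.lt_succ_self t))).E p r s h) (pr S (uu k n t) p r (L.ι p r v)) = 0
    rw [Op.quot_pr]
    exact (congrArg (pr S (uu k n t) p s) (L.op_ι δ _ p r s h v)).trans (map_zero _)

section Zero

/-- The derivation acting on the scalars. -/
noncomputable def NN (δ : Derivation k (OO k n) (OO k n)) (X : Type u) [AddCommGroup X] [Module k X] :
    (OO k n) ⊗[k] X →+ (OO k n) ⊗[k] X :=
  (LinearMap.rTensor X (δ : (OO k n) →ₗ[k] (OO k n))).toAddMonoidHom

theorem NN_tmul (δ : Derivation k (OO k n) (OO k n)) {X : Type u} [AddCommGroup X] [Module k X]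
    (a : OO k n) (v : X) : NN δ X (a ⊗ₜ[k] v) = δ a ⊗ₜ[k] v := rfl

theorem NN_smul (δ : Derivation k (OO k n) (OO k n)) {X : Type u} [AddCommGroup X] [Module k X]
    (c : OO k n) (w : (OO k n) ⊗[k] X) : NN δ X (c • w) = c • NN δ X w + δ c • w := by
  induction w using TensorProduct.induction_on with
  | zero => simp
  | tmul a v =>
    rw [TensorProduct.smul_tmul', NN_tmul, NN_tmul, TensorProduct.smul_tmul',
      TensorProduct.smul_tmul', ← TensorProduct.add_tmul, smul_eq_mul, Derivation.leibniz,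
      smul_eq_mul, smul_eq_mul, smul_eq_mul, mul_comm a]
  | add x y hx hy =>
    rw [smul_add, map_add, hx, hy, map_add, smul_add, smul_add]
    abel

theorem NN_baseChange (δ : Derivation k (OO k n) (OO k n)) {X Y : Type u} [AddCommGroup X]
    [Module k X] [AddCommGroup Y] [Module k Y] (f : X →ₗ[k] Y) (w : (OO k n) ⊗[k] X) :
    NN δ Y (f.baseChange (OO k n) w) = f.baseChange (OO k n) (NN δ X w) := by
  induction w using TensorProduct.induction_on with
  | zero => simp
  | tmul a v =>
    rw [LinearMap.baseChange_tmul, NN_tmul, NN_tmul, LinearMap.baseChange_tmul]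
  | add x y hx hy => rw [map_add, map_add, hx, hy, map_add, map_add]

section Abs

variable {X Y X' Y' : Type u} [AddCommGroup X] [Module k X] [AddCommGroup Y] [Module k Y]
  [AddCommGroup X'] [Module k X'] [AddCommGroup Y'] [Module k Y']

/-- The operator attached to linear maps. -/
noncomputable def opE (δ : Fin (n + 1) → Derivation k (OO k n) (OO k n))
    (f : Fin (n + 1) → X →ₗ[k] Y) : (OO k n) ⊗[k] X →+ (OO k n) ⊗[k] Y :=
  ∑ j, ((f j).baseChange (OO k n)).toAddMonoidHom.comp (NN (δ j) X)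

theorem opE_apply (δ : Fin (n + 1) → Derivation k (OO k n) (OO k n))
    (f : Fin (n + 1) → X →ₗ[k] Y) (v : (OO k n) ⊗[k] X) :
    opE δ f v = ∑ j, (f j).baseChange (OO k n) (NN (δ j) X v) := by
  rw [opE, AddMonoidHom.finsetSum_apply]
  rfl

theorem opE_smul (δ : Fin (n + 1) → Derivation k (OO k n) (OO k n))
    (f : Fin (n + 1) → X →ₗ[k] Y) (c : OO k n) (v : (OO k n) ⊗[k] X) :
    opE δ f (c • v) = c • opE δ f v + ∑ j, δ j c • (f j).baseChange (OO k n) v := by
  rw [opE_apply, opE_apply, Finset.smul_sum, ← Finset.sum_add_distrib]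
  refine Finset.sum_congr rfl fun j _ => ?_
  rw [NN_smul, map_add, map_smul, map_smul]

theorem opE_comp (δ : Fin (n + 1) → Derivation k (OO k n) (OO k n))
    (f : Fin (n + 1) → X →ₗ[k] Y) (f' : Fin (n + 1) → X' →ₗ[k] Y') (g : X →ₗ[k] X')
    (g' : Y →ₗ[k] Y') (hg : ∀ j, f' j ∘ₗ g = g' ∘ₗ f j) (v : (OO k n) ⊗[k] X) :
    opE δ f' (g.baseChange (OO k n) v) = g'.baseChange (OO k n) (opE δ f v) := by
  rw [opE_apply, opE_apply, map_sum]
  refine Finset.sum_congr rfl fun l _ => ?_
  rw [NN_baseChange, ← LinearMap.comp_apply, ← LinearMap.comp_apply, ← LinearMap.baseChange_comp,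
    ← LinearMap.baseChange_comp, hg]

theorem opE_one (δ : Fin (n + 1) → Derivation k (OO k n) (OO k n))
    (f : Fin (n + 1) → X →ₗ[k] Y) (v : X) : opE δ f ((1 : OO k n) ⊗ₜ[k] v) = 0 := by
  rw [opE_apply]
  refine Finset.sum_eq_zero fun j _ => ?_
  rw [NN_tmul, Derivation.map_one_eq_zero, TensorProduct.zero_tmul, map_zero]

theorem span_one (X : Type u) [AddCommGroup X] [Module k X] :
    Submodule.span (OO k n) (Set.range (fun x : X => (1 : OO k n) ⊗ₜ[k] x)) = ⊤ := by
  rw [eq_top_iff]
  rintro w -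
  induction w using TensorProduct.induction_on with
  | zero => exact Submodule.zero_mem _
  | tmul a v =>
    have : a ⊗ₜ[k] v = a • ((1 : OO k n) ⊗ₜ[k] v) := by
      rw [TensorProduct.smul_tmul', smul_eq_mul, mul_one]
    rw [this]
    exact Submodule.smul_mem _ _ (Submodule.subset_span ⟨v, rfl⟩)
  | add x y hx hy => exact Submodule.add_mem _ hx hy

end Abs

variable (S₀ : Sys (n + 1) k)

/-- The system over the rational function field. -/
noncomputable abbrev S0 : Sys (n + 1) (OO k n) := S₀.map (bc k (OO k n))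

/-- The operators at level zero. -/
noncomputable def Op.zero (δ : Fin (n + 1) → Derivation k (OO k n) (OO k n)) : Op (S0 S₀) δ where
  E p r s h := opE δ fun j => ((S₀.x j r s h).f p).hom
  smul p r s h c v := opE_smul δ (fun j => ((S₀.x j r s h).f p).hom) c v
  x p j r s t h h' v := by
    refine opE_comp δ (fun j => ((S₀.x j r s h).f p).hom) (fun j => ((S₀.x j s t h').f p).hom)
      ((S₀.x j r s h).f p).hom ((S₀.x j s t h').f p).hom (fun l => ?_) v
    exact congrArg (fun f => (f.f p).hom) (S₀.comm j l r s t h h')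
  d p r s h v := by
    refine opE_comp δ (fun j => ((S₀.x j r s h).f p).hom) (fun j => ((S₀.x j r s h).f (p + 1)).hom)
      ((S₀.C r).d p (p + 1)).hom ((S₀.C s).d p (p + 1)).hom (fun l => ?_) v
    exact (congrArg (fun f => f.hom) ((S₀.x l r s h).comm p (p + 1))).symm

/-- Level zero. -/
noncomputable def Lev.zero : Lev S₀ (S0 S₀) 0 where
  ι p r := (TensorProduct.mk k (OO k n) ((S₀.C r).X p) 1).toAddMonoidHom
  ι_smul p r c v := by
    change (1 : OO k n) ⊗ₜ[k] (c • v) = algebraMap k (OO k n) c • ((1 : OO k n) ⊗ₜ[k] v)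
    rw [TensorProduct.tmul_smul, algebraMap_smul]
  ι_x p j r s h v := rfl
  ι_d p r v := rfl
  span p r := span_one ((S₀.C r).X p)
  rel i hi := absurd hi (Nat.not_lt_zero i)
  op δ _ := Op.zero S₀ δ
  op_ι δ _ p r s h v := opE_one δ (fun j => ((S₀.x j r s h).f p).hom) v

end Zero

/-- The tower of generic linear sections. -/
noncomputable def T (S₀ : Sys (n + 1) k) : ℕ → Sys (n + 1) (OO k n)
  | 0 => S0 S₀
  | t + 1 => quot' (T S₀ t) (uu k n t)

/-- The structure on the levels of the tower. -/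
noncomputable def lev [CharZero k] (S₀ : Sys (n + 1) k) : ∀ t, Lev S₀ (T S₀ t) t
  | 0 => Lev.zero S₀
  | t + 1 => (lev S₀ t).succ

end K52.Tower
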