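import Groth.Agent.Coherent.K52.Inj
import Groth.Agent.Coherent.K52.HZ
import Groth.Agent.Fga.MumFinal

/-!
# Functoriality, exactness and cohomology of the tower
-/

set_option autoImplicit false

universe u

open CategoryTheory CategoryTheory.Limits
open scoped TensorProduct

namespace K52.TowerH

open Der Weyl Tower Inj HZ Groth.Agent.Fga.MumSys Groth.Agent.Fga.MumBC Groth.Agent.Fga.MumSES
  Groth.Agent.Fga.MumLES Groth.Agent.Fga.MumFinal Groth.Agent.Fga.MumCast

variable {k : Type u} [Field k] {n : ℕ}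

section Fun

/-- The induced morphism on quotients. -/
noncomputable def qHom {K : Type u} [Field K] (a : Fin (n + 1) → K) {S Q : Sys (n + 1) K}
    (φ : Hom S Q) : Hom (quot' S a) (quot' Q a) where
  f := quotHomF a φ
  comm i r s h := by
    change quotx S a i r s h ≫ _ = _ ≫ quotx Q a i r s h
    rw [← cancel_epi (quotπ S a r), quotπ_quotx_assoc, quotπ_quotHomF, quotπ_quotHomF_assoc,
      quotπ_quotx, ← Category.assoc, ← Category.assoc, φ.comm]

theorem qHom_pr {K : Type u} [Field K] (a : Fin (n + 1) → K) {S Q : Sys (n + 1) K}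
    (φ : Hom S Q) (p : ℕ) (r : ℤ) (v : (S.C r).X p) :
    ((qHom a φ).f r).f p (pr S a p r v) = pr Q a p r ((φ.f r).f p v) :=
  congrArg (fun f => f.f p v) (quotπ_quotHomF a φ r)

/-- The morphism of towers. -/
noncomputable def TH {S₀ Q₀ : Sys (n + 1) k} (φ : Hom S₀ Q₀) : ∀ t, Hom (T S₀ t) (T Q₀ t)
  | 0 => φ.map (bc k (OO k n))
  | t + 1 => qHom (uu k n t) (TH φ t)

theorem TH_ι [CharZero k] {S₀ Q₀ : Sys (n + 1) k} (φ : Hom S₀ Q₀) (t : ℕ) (p : ℕ) (r : ℤ)
    (v : (S₀.C r).X p) : ((TH φ t).f r).f p ((lev S₀ t).ι p r v) =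
      (lev Q₀ t).ι p r ((φ.f r).f p v) := by
  induction t with
  | zero =>
    change (((φ.f r).f p).hom.baseChange (OO k n)) ((1 : OO k n) ⊗ₜ[k] v) =
      (1 : OO k n) ⊗ₜ[k] ((φ.f r).f p).hom v
    rw [LinearMap.baseChange_tmul]
  | succ t ih =>
    change ((qHom (uu k n t) (TH φ t)).f r).f p (pr (T S₀ t) (uu k n t) p r ((lev S₀ t).ι p r v)) =
      pr (T Q₀ t) (uu k n t) p r ((lev Q₀ t).ι p r ((φ.f r).f p v))
    rw [qHom_pr, ih]

end Fun

section Exact

variable [CharZero k]

theorem T_mono (S₀ : Sys (n + 1) k) (t : ℕ) (r s : ℤ) (h : r + 1 = s) (p : ℕ) :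
    Mono (((T S₀ t).lin (uu k n t) r s h).f p) :=
  (ModuleCat.mono_iff_injective _).2 (lin_injective (lev S₀ t) p r s h)

/-- The basic short exact sequence. -/
theorem ses (S₀ : Sys (n + 1) k) (t : ℕ) (r s : ℤ) (h : r + 1 = s) :
    (ShortComplex.mk ((T S₀ t).lin (uu k n t) r s h) (qp (T S₀ t) (uu k n t) s)
      (lin_quotπ (T S₀ t) (uu k n t) r s h)).ShortExact :=
  shortExact_quot (uu k n t) (T S₀ t) (T_mono S₀ t) r s h

theorem TH_zero {A B D : Sys (n + 1) k} (f : Hom A B) (g : Hom B D)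
    (h0 : ∀ r, f.f r ≫ g.f r = 0) (t : ℕ) (r : ℤ) : (TH f t).f r ≫ (TH g t).f r = 0 := by
  induction t generalizing r with
  | zero =>
    change ((bc k (OO k n)).mapHomologicalComplex _).map _ ≫
      ((bc k (OO k n)).mapHomologicalComplex _).map _ = 0
    rw [← Functor.map_comp, h0, Functor.map_zero]
  | succ t ih =>
    change quotHomF (uu k n t) (TH f t) r ≫ quotHomF (uu k n t) (TH g t) r = 0
    rw [← cancel_epi (quotπ (T A t) (uu k n t) r), quotπ_quotHomF_assoc, quotπ_quotHomF,
      ← Category.assoc, ih, zero_comp, comp_zero]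

/-- Exactness of the tower. -/
theorem TH_exact (E : SES (n + 1) k) (t : ℕ) (r : ℤ) :
    (ShortComplex.mk ((TH E.f t).f r) ((TH E.g t).f r) (TH_zero E.f E.g E.zero t r)).ShortExact := by
  induction t generalizing r with
  | zero => exact (E.map (bc k (OO k n))).exact r
  | succ t ih =>
    apply HomologicalComplex.shortExact_of_degreewise_shortExact
    intro p
    set a := uu k n t with ha
    have e1 := fg_exact (ih (r - 1)) p
    have e2 := fg_exact (ih r) p
    have eA := exact_fun (exact_quotπ_f (T E.A t) a (r - 1) r (by ring) p)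
    have eB := exact_fun (exact_quotπ_f (T E.B t) a (r - 1) r (by ring) p)
    have eD := exact_fun (exact_quotπ_f (T E.D t) a (r - 1) r (by ring) p)
    have sA := (ModuleCat.epi_iff_surjective _).1 (epi_quotπ_f (T E.A t) a r p)
    have sB := (ModuleCat.epi_iff_surjective _).1 (epi_quotπ_f (T E.B t) a r p)
    have sD := (ModuleCat.epi_iff_surjective _).1 (epi_quotπ_f (T E.D t) a r p)
    have c1 := congrArg (fun f => (f.f p).hom) ((TH E.f t).comm_lin a (r - 1) r (by ring))
    have c2 := congrArg (fun f => (f.f p).hom) ((TH E.g t).comm_lin a (r - 1) r (by ring))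
    have c3 := congrArg (fun f => (f.f p).hom) (quotπ_quotHomF a (TH E.f t) r)
    have c4 := congrArg (fun f => (f.f p).hom) (quotπ_quotHomF a (TH E.g t) r)
    have i3 : Function.Injective ((quotHomF a (TH E.f t) r).f p).hom :=
      quot_inj _ _ _ _ _ _ _ _ _ _ e1 (f_injective (ih r) p) e2 eA eB sA
        ((ModuleCat.mono_iff_injective _).1 (T_mono E.D t (r - 1) r (by ring) p))
        (fun v => (LinearMap.congr_fun c1 v).symm) (fun v => (LinearMap.congr_fun c2 v).symm)
        (fun v => (LinearMap.congr_fun c3 v).symm)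
    have x3 : Function.Exact ((quotHomF a (TH E.f t) r).f p).hom ((quotHomF a (TH E.g t) r).f p).hom :=
      quot_exact _ _ _ _ _ _ _ _ _ _ e2 (g_surjective (ih (r - 1)) p) eB eD sA sB
        (fun v => (LinearMap.congr_fun c2 v).symm) (fun v => (LinearMap.congr_fun c3 v).symm)
        (fun v => (LinearMap.congr_fun c4 v).symm)
    have s3 : Function.Surjective ((quotHomF a (TH E.g t) r).f p).hom := by
      intro d
      obtain ⟨d, rfl⟩ := sD d
      obtain ⟨b, rfl⟩ := g_surjective (ih r) p d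
      exact ⟨(quotπ (T E.B t) a r).f p b, LinearMap.congr_fun c4 b⟩
    refine { exact := ?_, mono_f := ?_, epi_g := ?_ }
    · rw [ShortComplex.moduleCat_exact_iff]
      intro x hx
      exact (x3 x).1 hx
    · exact (ModuleCat.mono_iff_injective _).2 i3
    · exact (ModuleCat.epi_iff_surjective _).2 s3

end Exact

section Coh

variable [CharZero k] (S₀ : Sys (n + 1) k)

theorem serre_T (h : Serre S₀) (t : ℕ) : Serre (T S₀ t) := by
  induction t with
  | zero =>
    obtain ⟨r₀, hr₀⟩ := h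
    exact ⟨r₀, fun r hr i hi => (bc_subsingleton_iff _ _ i).2 (hr₀ r hr i hi)⟩
  | succ t ih =>
    obtain ⟨r₀, hr₀⟩ := ih
    exact ⟨r₀ + 1, fun r hr i hi => sub₃ (ses S₀ t (r - 1) r (by ring)) i (hr₀ r (by omega) i hi)
      (hr₀ (r - 1) (by omega) (i + 1) (by omega))⟩

theorem finite_T (h : ∀ i r, Module.Finite k ((S₀.C r).homology i)) (t : ℕ) (i : ℕ) (r : ℤ) :
    Module.Finite (OO k n) (((T S₀ t).C r).homology i) := by
  induction t generalizing i r with
  | zero => exact bc_finite _ _ i (h i r)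
  | succ t ih => exact fin₃ (ses S₀ t (r - 1) r (by ring)) i (ih i r) (ih (i + 1) (r - 1))

theorem van_T (N : ℕ) (h : ∀ (i : ℕ) (r : ℤ), N < i → Subsingleton ((S₀.C r).homology i)) (t : ℕ)
    (i : ℕ) (r : ℤ) (hi : N < i) : Subsingleton (((T S₀ t).C r).homology i) := by
  induction t generalizing i r with
  | zero => exact (bc_subsingleton_iff _ _ i).2 (h i r hi)
  | succ t ih =>
    exact sub₃ (ses S₀ t (r - 1) r (by ring)) i (ih i r hi) (ih (i + 1) (r - 1) (by omega))

theorem chi_T_zero (N : ℕ) (r : ℤ) : chi N ((T S₀ 0).C r) = chi N (S₀.C r) := bc_chi _ _ _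

theorem chi_T_succ (N : ℕ) (h : ∀ i r, Module.Finite k ((S₀.C r).homology i))
    (hv : ∀ (i : ℕ) (r : ℤ), N < i → Subsingleton ((S₀.C r).homology i)) (t : ℕ) (r : ℤ) :
    chi N ((T S₀ (t + 1)).C r) = chi N ((T S₀ t).C r) - chi N ((T S₀ t).C (r - 1)) := by
  have := chi_add (ses S₀ t (r - 1) r (by ring)) N (fun i => finite_T S₀ h t i (r - 1))
    (fun i => finite_T S₀ h t i r) (van_T S₀ N hv t (N + 1) (r - 1) (by omega))
  change chi N ((T S₀ t).C r) = chi N ((T S₀ t).C (r - 1)) + chi N ((T S₀ (t + 1)).C r) at this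
  rw [this]
  ring

/-- The zero cycles of the levels are spanned by those of the system, in large degrees. -/
theorem span_Z (h : Serre S₀) (t : ℕ) : ∃ r₁ : ℤ, ∀ r : ℤ, r₁ ≤ r →
    Z ((T S₀ t).C r) ≤ Submodule.span (OO k n) ((lev S₀ t).ι 0 r '' Z (S₀.C r)) := by
  induction t with
  | zero =>
    refine ⟨0, fun r _ v hv => ?_⟩
    -- the kernel commutes with base change
    have h1 : Function.Exact (Z (S₀.C r)).subtype ((S₀.C r).d 0 1).hom := by
      intro x
      constructor
      · intro hx; exact ⟨⟨x, hx⟩, rfl⟩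
      · rintro ⟨y, rfl⟩; exact y.2
    have h2 := Module.Flat.lTensor_exact (OO k n) h1
    obtain ⟨w, hw⟩ := (h2 v).1 hv
    rw [← hw]
    have h3 : ∀ w : (OO k n) ⊗[k] (Z (S₀.C r)), (LinearMap.lTensor (OO k n)
        (Z (S₀.C r)).subtype w : (OO k n) ⊗[k] ((S₀.C r).X 0)) ∈
        Submodule.span (OO k n) ((fun x : (S₀.C r).X 0 => (1 : OO k n) ⊗ₜ[k] x) '' Z (S₀.C r)) := by
      intro w
      induction w using TensorProduct.induction_on with
      | zero => rw [map_zero]; exact Submodule.zero_mem _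
      | tmul a v =>
        rw [LinearMap.lTensor_tmul]
        have : a ⊗ₜ[k] ((Z (S₀.C r)).subtype v) =
            a • ((1 : OO k n) ⊗ₜ[k] ((Z (S₀.C r)).subtype v)) := by
          rw [TensorProduct.smul_tmul', smul_eq_mul, mul_one]
        rw [this]
        exact Submodule.smul_mem _ _ (Submodule.subset_span ⟨v, v.2, rfl⟩)
      | add x y hx hy => rw [map_add]; exact Submodule.add_mem _ hx hy
    exact h3 w
  | succ t ih =>
    obtain ⟨r₁, hr₁⟩ := ih
    obtain ⟨r₀, hr₀⟩ := serre_T S₀ h t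
    refine ⟨max r₁ (r₀ + 1), fun r hr v hv => ?_⟩
    have hsurj := zmap_surjective (ses S₀ t (r - 1) r (by ring)) (hr₀ (r - 1)
      (by have := le_max_right r₁ (r₀ + 1); omega) 1 le_rfl)
    obtain ⟨w, hw⟩ := hsurj ⟨v, hv⟩
    have hw' : pr (T S₀ t) (uu k n t) 0 r (w : ((T S₀ t).C r).X 0) = v := congrArg Subtype.val hw
    have h1 := Submodule.mem_map_of_mem (f := pr (T S₀ t) (uu k n t) 0 r)
      (hr₁ r ((le_max_left _ _).trans hr) w.2)
    rw [Submodule.map_span, ← Set.image_comp, hw'] at h1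
    exact h1

end Coh

end K52.TowerH
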