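import Groth.Agent.Coherent.K52.Der
import Mathlib.Algebra.Algebra.Bilinear
import Mathlib.LinearAlgebra.Span.Basic
import Mathlib.Algebra.CharP.Algebra

/-!
# An elimination and differentiation argument

`A` is a vector space over the rational function field `Om k I`, `M` a `k`-vector space, `ι : M → A`
additive and `k`-linear, `x j` commuting endomorphisms of `A`, compatible with endomorphisms `x0 j` of
`M`. There are "bad" variables which can be eliminated in the chart `x l ≠ 0`, and for the good variables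
`τ` there are operators `E τ` with `E τ (u^α ι e) = α_τ u^(α-τ) ι (x_l e)`.

Main result `chart`: a subspace `V` stable under the `x j` and the `E τ` is, after multiplying by powers of
`x l`, spanned by elements of `ι M ∩ V`.
-/

set_option autoImplicit false

universe u v

namespace K52.Weyl

open Der

variable {k : Type u} [Field k] {I : Type v}
variable {A M : Type*} [AddCommGroup A] [Module (Om k I) A] [AddCommGroup M] [Module k M]
variable {J : Type*} [Fintype J] [DecidableEq J]

/-- The data of a chart. -/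
structure Chart (k : Type u) [Field k] (I : Type v) (A M : Type*) [AddCommGroup A] [Module (Om k I) A]
    [AddCommGroup M] [Module k M] (J : Type*) [Fintype J] [DecidableEq J] where
  ι : M →+ A
  ι_smul : ∀ (c : k) (e : M), ι (c • e) = algebraMap k (Om k I) c • ι e
  x : J → A →ₗ[Om k I] A
  x_comm : ∀ i j v, x i (x j v) = x j (x i v)
  x0 : J → M →+ M
  ι_x : ∀ j e, ι (x0 j e) = x j (ι e)
  l : J
  Bad : I → Prop
  bad : ∀ τ, Bad τ → ∃ σ : J → I, (∀ j, j ≠ l → ¬ Bad (σ j)) ∧
    ∀ v, U k τ • x l v = - ∑ j ∈ Finset.univ.erase l, U k (σ j) • x j v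

/-- The operators in the good directions. -/
structure Ops (C : Chart k I A M J) where
  E : I → A →+ A
  E_mon : ∀ τ, ¬ C.Bad τ → ∀ α : I →₀ ℕ, (∀ σ ∈ α.support, ¬ C.Bad σ) → ∀ e,
    E τ (mon k α • C.ι e) = (α τ : Om k I) • mon k (α - Finsupp.single τ 1) • C.ι (C.x0 C.l e)

namespace Chart

variable (C : Chart k I A M J)

/-- Sums of good monomials times elements of `M`. -/
def Q : AddSubgroup A :=
  AddSubgroup.closure {w | ∃ (α : I →₀ ℕ) (e : M), (∀ σ ∈ α.support, ¬ C.Bad σ) ∧ w = mon k α • C.ι e}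

theorem x_mem_Q (j : J) {w : A} (hw : w ∈ C.Q) : C.x j w ∈ C.Q := by
  induction hw using AddSubgroup.closure_induction with
  | mem w hw =>
    obtain ⟨α, e, hα, rfl⟩ := hw
    refine AddSubgroup.subset_closure ⟨α, C.x0 j e, hα, ?_⟩
    rw [map_smul, C.ι_x]
  | zero => rw [map_zero]; exact C.Q.zero_mem
  | add a b _ _ ha hb => rw [map_add]; exact C.Q.add_mem ha hb
  | neg a _ ha => rw [map_neg]; exact C.Q.neg_mem ha

theorem xpow_mem_Q (j : J) (N : ℕ) {w : A} (hw : w ∈ C.Q) : (C.x j ^ N) w ∈ C.Q := by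
  induction N with
  | zero => simpa using hw
  | succ N ih => rw [pow_succ', Module.End.mul_apply]; exact C.x_mem_Q j ih

theorem U_mem_Q (τ : I) (hτ : ¬ C.Bad τ) {w : A} (hw : w ∈ C.Q) : U k τ • w ∈ C.Q := by
  classical
  induction hw using AddSubgroup.closure_induction with
  | mem w hw =>
    obtain ⟨α, e, hα, rfl⟩ := hw
    refine AddSubgroup.subset_closure ⟨α + Finsupp.single τ 1, e, ?_, ?_⟩
    · intro σ hσ
      rcases Finset.mem_union.1 (Finsupp.support_add hσ) with h | h
      · exact hα σ h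
      · rw [Finset.mem_singleton.1 (Finsupp.support_single_subset h)]; exact hτ
    · rw [mon_add_single, mul_smul]
  | zero => rw [smul_zero]; exact C.Q.zero_mem
  | add a b _ _ ha hb => rw [smul_add]; exact C.Q.add_mem ha hb
  | neg a _ ha => rw [smul_neg]; exact C.Q.neg_mem ha

theorem xpow_mem_Q_of_le {w : A} {N N' : ℕ} (h : N ≤ N') (hw : (C.x C.l ^ N) w ∈ C.Q) :
    (C.x C.l ^ N') w ∈ C.Q := by
  obtain ⟨d, rfl⟩ := Nat.exists_eq_add_of_le h
  rw [add_comm, pow_add, Module.End.mul_apply]
  exact C.xpow_mem_Q _ _ hw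

theorem elim_poly (p : Rp k I) (e : M) :
    ∃ N, (C.x C.l ^ N) (algebraMap (Rp k I) (Om k I) p • C.ι e) ∈ C.Q := by
  induction p using MvPolynomial.induction_on with
  | C a =>
    refine ⟨0, ?_⟩
    rw [pow_zero, Module.End.one_apply]
    refine AddSubgroup.subset_closure ⟨0, a • e, by simp, ?_⟩
    rw [mon_zero, one_smul, C.ι_smul]
    rfl
  | add p q hp hq =>
    obtain ⟨N, hN⟩ := hp
    obtain ⟨N', hN'⟩ := hq
    refine ⟨max N N', ?_⟩
    rw [map_add, add_smul, map_add]
    exact C.Q.add_mem (C.xpow_mem_Q_of_le (le_max_left _ _) hN)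
      (C.xpow_mem_Q_of_le (le_max_right _ _) hN')
  | mul_X p τ hp =>
    obtain ⟨N, hN⟩ := hp
    have e1 : algebraMap (Rp k I) (Om k I) (p * MvPolynomial.X τ) • C.ι e =
        U k τ • (algebraMap (Rp k I) (Om k I) p • C.ι e) := by
      rw [map_mul, mul_comm, mul_smul]
      rfl
    by_cases hτ : C.Bad τ
    · obtain ⟨σ, hσ, hrel⟩ := C.bad τ hτ
      refine ⟨N + 1, ?_⟩
      rw [e1, map_smul, pow_succ', Module.End.mul_apply, hrel]
      refine C.Q.neg_mem (C.Q.sum_mem fun j hj => ?_)
      exact C.U_mem_Q _ (hσ j (Finset.ne_of_mem_erase hj)) (C.x_mem_Q _ hN)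
    · refine ⟨N, ?_⟩
      rw [e1, map_smul]
      exact C.U_mem_Q _ hτ hN

theorem elim {w : A} (hw : w ∈ Submodule.span (Om k I) (Set.range C.ι)) :
    ∃ t : Rp k I, t ≠ 0 ∧ ∀ p : Rp k I, ∃ N,
      (C.x C.l ^ N) (algebraMap (Rp k I) (Om k I) (p * t) • w) ∈ C.Q := by
  induction hw using Submodule.span_induction with
  | mem w hw =>
    obtain ⟨e, rfl⟩ := hw
    exact ⟨1, one_ne_zero, fun p => by simpa using C.elim_poly p e⟩
  | zero => exact ⟨1, one_ne_zero, fun p => ⟨0, by rw [smul_zero, map_zero]; exact C.Q.zero_mem⟩⟩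
  | add a b _ _ ha hb =>
    obtain ⟨t, ht, h⟩ := ha
    obtain ⟨t', ht', h'⟩ := hb
    refine ⟨t' * t, mul_ne_zero ht' ht, fun p => ?_⟩
    obtain ⟨N, hN⟩ := h (p * t')
    obtain ⟨N', hN'⟩ := h' (p * t)
    refine ⟨max N N', ?_⟩
    rw [smul_add, map_add]
    refine C.Q.add_mem (C.xpow_mem_Q_of_le (le_max_left _ _) ?_)
      (C.xpow_mem_Q_of_le (le_max_right _ _) ?_)
    · rw [← mul_assoc]; exact hN
    · rw [mul_comm t' t, ← mul_assoc]; exact hN'
  | smul c a _ ha =>
    obtain ⟨t, ht, h⟩ := ha
    obtain ⟨⟨a', b⟩, hab⟩ := IsLocalization.surj (nonZeroDivisors (Rp k I)) c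
    refine ⟨t * (b : Rp k I), mul_ne_zero ht (nonZeroDivisors.ne_zero b.2), fun p => ?_⟩
    obtain ⟨N, hN⟩ := h (p * a')
    refine ⟨N, ?_⟩
    have : algebraMap (Rp k I) (Om k I) (p * (t * (b : Rp k I))) • c • a =
        algebraMap (Rp k I) (Om k I) (p * a' * t) • a := by
      rw [smul_smul]
      congr 1
      simp only [map_mul]
      simp only at hab
      rw [← hab]
      ring
    rw [this]
    exact hN

/-- Elements of `Q` as sums over distinct monomials. -/
theorem exists_finsupp {w : A} (hw : w ∈ C.Q) : ∃ f : (I →₀ ℕ) →₀ M,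
    (∀ α ∈ f.support, ∀ σ ∈ α.support, ¬ C.Bad σ) ∧ w = f.sum fun α e => mon k α • C.ι e := by
  classical
  induction hw using AddSubgroup.closure_induction with
  | mem w hw =>
    obtain ⟨α, e, hα, rfl⟩ := hw
    refine ⟨Finsupp.single α e, ?_, ?_⟩
    · intro β hβ
      rw [Finset.mem_singleton.1 (Finsupp.support_single_subset hβ)]
      exact hα
    · rw [Finsupp.sum_single_index]
      rw [map_zero, smul_zero]
  | zero => exact ⟨0, by simp, by simp⟩
  | add a b _ _ ha hb =>
    obtain ⟨f, hf, rfl⟩ := ha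
    obtain ⟨g, hg, rfl⟩ := hb
    refine ⟨f + g, fun α hα => ?_, ?_⟩
    · rcases Finset.mem_union.1 (Finsupp.support_add hα) with h | h
      · exact hf α h
      · exact hg α h
    · rw [Finsupp.sum_add_index']
      · intro α; rw [map_zero, smul_zero]
      · intro α e e'; rw [map_add, smul_add]
  | neg a _ ha =>
    obtain ⟨f, hf, rfl⟩ := ha
    refine ⟨-f, fun α hα => hf α (by simpa using hα), ?_⟩
    rw [Finsupp.sum_neg_index]
    · simp [Finsupp.sum]
    · intro α; rw [map_zero, smul_zero]

end Chart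

variable {C : Chart k I A M J} (O : Ops C)

/-- The differentiation argument. -/
theorem diff_aux [CharZero k] (V : Submodule (Om k I) A) (hx : ∀ v ∈ V, C.x C.l v ∈ V)
    (hE : ∀ τ, ¬ C.Bad τ → ∀ v ∈ V, O.E τ v ∈ V) {B : Type*} :
    ∀ (D : ℕ) (s : Finset B) (α : B → I →₀ ℕ) (e : B → M), Set.InjOn α s →
      (∀ a ∈ s, (α a).degree ≤ D) → (∀ a ∈ s, ∀ σ ∈ (α a).support, ¬ C.Bad σ) →
      ∑ a ∈ s, mon k (α a) • C.ι (e a) ∈ V →
      ∃ N, ∀ a ∈ s, (C.x C.l ^ N) (C.ι (e a)) ∈ V := by
  classical
  have hxN : ∀ (N : ℕ) (v : A), v ∈ V → (C.x C.l ^ N) v ∈ V := by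
    intro N
    induction N with
    | zero => intro v hv; simpa using hv
    | succ N ih => intro v hv; rw [pow_succ', Module.End.mul_apply]; exact hx _ (ih v hv)
  have hle : ∀ {N N' : ℕ} (v : A), N ≤ N' → (C.x C.l ^ N) v ∈ V → (C.x C.l ^ N') v ∈ V := by
    intro N N' v h hv
    obtain ⟨d, rfl⟩ := Nat.exists_eq_add_of_le h
    rw [add_comm, pow_add, Module.End.mul_apply]
    exact hxN _ _ hv
  have : CharZero (Om k I) := charZero_of_injective_algebraMap (algebraMap k (Om k I)).injective
  intro D
  induction D with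
  | zero =>
    intro s α e hinj hdeg _ hw
    have h0 : ∀ a ∈ s, α a = 0 := fun a ha => by
      have := hdeg a ha
      rw [Nat.le_zero, Finsupp.degree_eq_zero_iff] at this
      exact this
    refine ⟨0, fun a ha => ?_⟩
    have hs : s = {a} := by
      ext b
      rw [Finset.mem_singleton]
      constructor
      · intro hb
        exact hinj hb ha (by rw [h0 a ha, h0 b hb])
      · rintro rfl; exact ha
    rw [hs, Finset.sum_singleton, h0 a ha, mon_zero, one_smul] at hw
    simpa using hw
  | succ D ih =>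
    intro s α e hinj hdeg hgood hw
    -- the derivatives
    have key : ∀ τ, ∃ N, ∀ a ∈ s, α a τ ≠ 0 → (C.x C.l ^ N) (C.ι (e a)) ∈ V := by
      intro τ
      by_cases hτ : C.Bad τ
      · refine ⟨0, fun a ha h => ?_⟩
        exact absurd hτ (hgood a ha τ (Finsupp.mem_support_iff.2 h))
      have h1 := hE τ hτ _ hw
      rw [map_sum] at h1
      let s' := s.filter fun a => α a τ ≠ 0
      have h2 : ∑ a ∈ s, O.E τ (mon k (α a) • C.ι (e a)) =
          ∑ a ∈ s', mon k (α a - Finsupp.single τ 1) • C.ι ((α a τ) • C.x0 C.l (e a)) := by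
        rw [Finset.sum_filter]
        refine Finset.sum_congr rfl fun a ha => ?_
        rw [O.E_mon τ hτ _ (hgood a ha)]
        split_ifs with h
        · rw [map_nsmul, smul_comm, Nat.cast_smul_eq_nsmul]
        · push Not at h
          rw [h, Nat.cast_zero, zero_smul]
      rw [h2] at h1
      have hle1 : ∀ a ∈ s', Finsupp.single τ 1 ≤ α a := fun a ha => by
        rw [Finsupp.single_le_iff]; exact Nat.one_le_iff_ne_zero.2 (Finset.mem_filter.1 ha).2
      have c1 : Set.InjOn (fun a => α a - Finsupp.single τ 1) s' := by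
        intro a ha b hb hab
        refine hinj (Finset.mem_filter.1 ha).1 (Finset.mem_filter.1 hb).1 ?_
        rw [← tsub_add_cancel_of_le (hle1 a ha), ← tsub_add_cancel_of_le (hle1 b hb)]
        exact congrArg (· + Finsupp.single τ 1) hab
      have c2 : ∀ a ∈ s', (α a - Finsupp.single τ 1).degree ≤ D := by
        intro a ha
        have h5 := hdeg a (Finset.mem_filter.1 ha).1
        have h6 : (α a).degree = (α a - Finsupp.single τ 1).degree + 1 := by
          conv_lhs => rw [← tsub_add_cancel_of_le (hle1 a ha)]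
          rw [map_add, Finsupp.degree_single]
        omega
      have c3 : ∀ a ∈ s', ∀ σ ∈ (α a - Finsupp.single τ 1).support, ¬ C.Bad σ := by
        intro a ha σ hσ
        refine hgood a (Finset.mem_filter.1 ha).1 σ ?_
        rw [Finsupp.mem_support_iff] at hσ ⊢
        intro h0
        apply hσ
        rw [Finsupp.tsub_apply, h0, Nat.zero_sub]
      obtain ⟨N, hN⟩ := ih s' (fun a => α a - Finsupp.single τ 1)
        (fun a => (α a τ) • C.x0 C.l (e a)) c1 c2 c3 h1
      refine ⟨N + 1, fun a ha hne => ?_⟩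
      have h3 := hN a (Finset.mem_filter.2 ⟨ha, hne⟩)
      rw [map_nsmul, map_nsmul, C.ι_x, ← Nat.cast_smul_eq_nsmul (Om k I)] at h3
      have h4 : ((α a τ : ℕ) : Om k I) ≠ 0 := Nat.cast_ne_zero.2 hne
      rw [V.smul_mem_iff h4, ← Module.End.mul_apply, ← pow_succ] at h3
      exact h3
    choose N hN using key
    -- a common exponent for the non-constant monomials
    let T : Finset I := s.biUnion fun a => (α a).support
    let N0 := T.sup N
    have h1 : ∀ a ∈ s, α a ≠ 0 → (C.x C.l ^ N0) (C.ι (e a)) ∈ V := by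
      intro a ha hne
      obtain ⟨τ, hτ⟩ : ∃ τ, α a τ ≠ 0 := by
        by_contra h
        push Not at h
        exact hne (Finsupp.ext h)
      refine hle _ (Finset.le_sup (f := N) (b := τ) ?_) (hN τ a ha hτ)
      exact Finset.mem_biUnion.2 ⟨a, ha, Finsupp.mem_support_iff.2 hτ⟩
    refine ⟨N0, fun a ha => ?_⟩
    by_cases h0 : α a = 0
    · have h2 := hxN N0 _ hw
      rw [map_sum, ← Finset.add_sum_erase s _ ha, h0, mon_zero, one_smul] at h2
      have h3 : ∑ b ∈ s.erase a, (C.x C.l ^ N0) (mon k (α b) • C.ι (e b)) ∈ V := by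
        refine V.sum_mem fun b hb => ?_
        rw [map_smul]
        refine V.smul_mem _ (h1 b (Finset.mem_of_mem_erase hb) ?_)
        intro hb0
        exact Finset.ne_of_mem_erase hb (hinj (Finset.mem_of_mem_erase hb) ha (by rw [hb0, h0]))
      exact (V.add_mem_iff_left h3).1 h2
    · exact h1 a ha h0

/-- A subspace stable under `x l` and the good operators is, up to powers of `x l`, spanned by elements
of the image of `M`. -/
theorem chart [CharZero k] (V : Submodule (Om k I) A) (hx : ∀ v ∈ V, C.x C.l v ∈ V)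
    (hE : ∀ τ, ¬ C.Bad τ → ∀ v ∈ V, O.E τ v ∈ V) {w : A} (hw : w ∈ V)
    (hw' : w ∈ Submodule.span (Om k I) (Set.range C.ι)) :
    ∃ N, (C.x C.l ^ N) w ∈ Submodule.span (Om k I) (C.ι '' {e | C.ι e ∈ V}) := by
  classical
  have hxN : ∀ (N : ℕ) (v : A), v ∈ V → (C.x C.l ^ N) v ∈ V := by
    intro N
    induction N with
    | zero => intro v hv; simpa using hv
    | succ N ih => intro v hv; rw [pow_succ', Module.End.mul_apply]; exact hx _ (ih v hv)
  have hι : ∀ (N : ℕ) (e : M), ∃ e', (C.x C.l ^ N) (C.ι e) = C.ι e' := by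
    intro N
    induction N with
    | zero => intro e; exact ⟨e, by simp⟩
    | succ N ih =>
      intro e
      obtain ⟨e', he'⟩ := ih e
      exact ⟨C.x0 C.l e', by rw [pow_succ', Module.End.mul_apply, he', C.ι_x]⟩
  obtain ⟨t, ht, h⟩ := C.elim hw'
  obtain ⟨N, hN⟩ := h 1
  rw [one_mul] at hN
  obtain ⟨f, hf, hfw⟩ := C.exists_finsupp hN
  have hV : (C.x C.l ^ N) (algebraMap (Rp k I) (Om k I) t • w) ∈ V := hxN N _ (V.smul_mem _ hw)
  rw [hfw, Finsupp.sum] at hV
  obtain ⟨N', hN'⟩ := diff_aux O V hx hE (f.support.sup fun α => α.degree) f.support id f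
    Function.injective_id.injOn (fun α hα => Finset.le_sup (f := fun α : I →₀ ℕ => α.degree) hα)
    (fun α hα => hf α hα) hV
  refine ⟨N' + N, ?_⟩
  have ht' : algebraMap (Rp k I) (Om k I) t ≠ 0 := by
    rw [Ne, FaithfulSMul.algebraMap_eq_zero_iff]
    exact ht
  rw [← Submodule.smul_mem_iff _ ht', ← map_smul, pow_add, Module.End.mul_apply, hfw, Finsupp.sum,
    map_sum]
  refine Submodule.sum_mem _ fun α hα => ?_
  rw [map_smul]
  refine Submodule.smul_mem _ _ ?_
  obtain ⟨e', he'⟩ := hι N' (f α)
  rw [he']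
  refine Submodule.subset_span ⟨e', ?_, rfl⟩
  change C.ι e' ∈ V
  rw [← he']
  exact hN' α hα

/-- If all `x j`-torsion vanishes then a vector killed by a power of every `x j` vanishes. -/
theorem eq_zero_of_pow {R A J : Type*} [Ring R] [AddCommGroup A] [Module R A] [Fintype J]
    [DecidableEq J] (x : J → A →ₗ[R] A) (x_comm : ∀ i j v, x i (x j v) = x j (x i v))
    (h0 : ∀ v, (∀ j, x j v = 0) → v = 0) (v : A) (h : ∀ j, ∃ N, (x j ^ N) v = 0) [Nonempty J] :
    v = 0 := by
  have key : ∀ (D : ℕ) (N : J → ℕ) (v : A), ∑ j, N j = D → (∀ j, (x j ^ N j) v = 0) → v = 0 := by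
    intro D
    induction D with
    | zero =>
      intro N v hD hv
      obtain ⟨j⟩ := ‹Nonempty J›
      have h1 : N j = 0 := by
        have := Finset.single_le_sum (f := N) (fun i _ => Nat.zero_le _) (Finset.mem_univ j)
        omega
      simpa [h1] using hv j
    | succ D ih =>
      intro N v hD hv
      refine h0 v fun j => ?_
      rcases Nat.eq_zero_or_pos (N j) with hj | hj
      · have : v = 0 := by simpa [hj] using hv j
        rw [this, map_zero]
      · refine ih (Function.update N j (N j - 1)) (x j v) ?_ fun i => ?_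
        · rw [← Finset.add_sum_erase _ _ (Finset.mem_univ j), Function.update_self]
          rw [← Finset.add_sum_erase _ _ (Finset.mem_univ j)] at hD
          have : ∑ i ∈ Finset.univ.erase j, Function.update N j (N j - 1) i =
              ∑ i ∈ Finset.univ.erase j, N i := Finset.sum_congr rfl fun i hi => by
            rw [Function.update_of_ne (Finset.ne_of_mem_erase hi)]
          rw [this]
          omega
        · by_cases hij : i = j
          · subst hij
            rw [Function.update_self, ← Module.End.mul_apply, ← pow_succ, Nat.sub_add_cancel hj]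
            exact hv i
          · rw [Function.update_of_ne hij]
            have hc : ∀ (n : ℕ) (w : A), (x i ^ n) (x j w) = x j ((x i ^ n) w) := by
              intro n
              induction n with
              | zero => intro w; simp
              | succ n ihn =>
                intro w
                rw [pow_succ', Module.End.mul_apply, ihn, Module.End.mul_apply, x_comm]
            rw [hc, hv i, map_zero]
  choose N hN using h
  exact key _ N v rfl hN

end K52.Weyl
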